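import Groth.Agent.CubicPfaff.Geom
import Mathlib.FieldTheory.IsAlgClosed.AlgebraicClosure
import Mathlib.Tactic

/-! # Linear Pfaffian representations from a rational point which is not a T-point -/

set_option autoImplicit false

universe u

open MvPolynomial Matrix

namespace CubicPfaff

variable {k : Type u} [Field k]

theorem not_le_span {n : ℕ} (v : Fin n → Fin 4 → k) (H : Submodule k (Fin 4 → k))
    (h : n < Module.finrank k H) : ¬ H ≤ Submodule.span k (Set.range v) := fun hle => by
  have h1 := Submodule.finrank_mono hle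
  have h2 : Module.finrank k (Submodule.span k (Set.range v)) ≤ n := by
    simpa [Set.finrank] using finrank_range_le_card (R := k) v
  omega

theorem subst_id (p : MvPolynomial (Fin 4) k) [Infinite k] :
    subst (LinearMap.toMatrix' (proj (0 : (Fin 4 → k) →ₗ[k] k) 0)) p = p :=
  MvPolynomial.funext fun x => by rw [eval_subst_toMatrix]; simp [proj_apply]

/-- A degree 0 check for factors of irreducible forms. -/
theorem not_irreducible_mul {K : Type*} [Field K] {p q : MvPolynomial (Fin 4) K} {m n : ℕ}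
    (hp : p.IsHomogeneous (m + 1)) (hq : q.IsHomogeneous (n + 1)) : ¬ Irreducible (p * q) := fun h => by
  rcases h.isUnit_or_isUnit rfl with hu | hu
  · have h0 : p ≠ 0 := hu.ne_zero
    have := (MvPolynomial.isUnit_iff_totalDegree_of_isReduced.1 hu).2
    rw [hp.totalDegree h0] at this
    omega
  · have h0 : q ≠ 0 := hu.ne_zero
    have := (MvPolynomial.isUnit_iff_totalDegree_of_isReduced.1 hu).2
    rw [hq.totalDegree h0] at this
    omega

variable [CharZero k] [Infinite k] {F : MvPolynomial (Fin 4) k} (hF : F.IsHomogeneous 3) {a : Fin 4 → k}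

include hF

theorem isHomogeneous_polarPoly : (∑ i, C (a i) * pderiv i F).IsHomogeneous 2 :=
  IsHomogeneous.sum _ _ _ fun _ _ => (hF.pderiv).C_mul _

/-- The case of a singular rational point. -/
theorem hasRep_of_singular (hFa : eval a F = 0)
    (hirr : Irreducible (MvPolynomial.map (algebraMap k (AlgebraicClosure k)) F))
    (hQ : (∑ i, C (a i) * pderiv i F) ≠ 0) (hl : ∀ x, polar F a x = 0) : HasRep F := by
  set Q := ∑ i, C (a i) * pderiv i F with hQdef
  let l : (Fin 4 → k) →ₗ[k] k := 0
  have hlp : ∀ x, l x = polar F a x := fun x => (hl x).symm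
  have hno : ∀ Λ : MvPolynomial (Fin 4) k, Λ.IsHomogeneous 1 →
      subst (LinearMap.toMatrix' (proj l 0)) F ≠ subst (LinearMap.toMatrix' (proj l 0)) Q * Λ := by
    intro Λ hΛ h
    rw [subst_id, subst_id] at h
    rw [h, map_mul] at hirr
    exact not_irreducible_mul (m := 1) (n := 0) ((isHomogeneous_polarPoly hF).map _) (hΛ.map _) hirr
  have avoid : ∀ Ws : List (Submodule k (Fin 4 → k)), (∀ W ∈ Ws, ∃ (n : ℕ) (v : Fin n → Fin 4 → k),
      n < 4 ∧ W = Submodule.span k (Set.range v)) → ∃ P, eval P F = 0 ∧ ∀ W ∈ Ws, P ∉ W := by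
    intro Ws hWs
    obtain ⟨x, hx, hW⟩ := exists_phi_avoid hF l 0 (Or.inr rfl) rfl (by rw [subst_id]; exact hQ) hno Ws (fun W hW => by
      obtain ⟨n, v, hn, rfl⟩ := hWs W hW
      refine not_le_span v _ ?_
      rw [show LinearMap.ker l = ⊤ from LinearMap.ker_zero, finrank_top, Module.finrank_fin_fun]
      exact hn)
    exact ⟨phi F a x, (eval_phi hF l hlp hFa hx).1, hW⟩
  have grow : ∀ n : ℕ, n ≤ 4 → ∃ w : Fin n → Fin 4 → k, LinearIndependent k w ∧ ∀ i, eval (w i) F = 0 := by
    intro n
    induction n with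
    | zero => exact fun _ => ⟨fun i => i.elim0, linearIndependent_empty_type, fun i => i.elim0⟩
    | succ n ih =>
      intro hn
      obtain ⟨w, hw, hwF⟩ := ih (by omega)
      obtain ⟨P, hP, hPW⟩ := avoid [Submodule.span k (Set.range w)] (fun W hW => ⟨n, w, by omega, List.mem_singleton.1 hW⟩)
      refine ⟨Fin.snoc w P, linearIndependent_finSnoc.2 ⟨hw, hPW _ (by simp)⟩, fun i => ?_⟩
      induction i using Fin.lastCases with
      | last => simpa using hP
      | cast j => simpa using hwF j
  obtain ⟨w, hw, hwF⟩ := grow 4 le_rfl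
  obtain ⟨R', hR', hR'W⟩ := avoid (List.ofFn fun i : Fin 4 => Submodule.span k (Set.range (w ∘ i.succAbove))) (fun W hW => by
    obtain ⟨i, rfl⟩ := List.mem_ofFn.1 hW
    exact ⟨3, w ∘ i.succAbove, by omega, rfl⟩)
  have htop : Submodule.span k (Set.range w) = ⊤ := hw.span_eq_top_of_card_eq_finrank (by simp)
  obtain ⟨r, hr⟩ := Submodule.mem_span_range_iff_exists_fun k |>.1 (htop ▸ Submodule.mem_top : R' ∈ Submodule.span k (Set.range w))
  have hr0 : ∀ i, r i ≠ 0 := by
    intro i hi
    refine hR'W _ (List.mem_ofFn.2 ⟨i, rfl⟩) ?_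
    rw [← hr, Fin.sum_univ_succAbove _ i, hi, zero_smul, zero_add]
    exact Submodule.sum_mem _ fun j _ => Submodule.smul_mem _ _ (Submodule.subset_span ⟨j, rfl⟩)
  simp only [Fin.sum_univ_four] at hr
  let cf : Fin 4 → k := ![r 0 / r 3 / 2, r 1 / r 3 / 2, r 2 / r 3 / 2, 1]
  let v : Fin 3 → Fin 4 → k := ![cf 0 • w 0, cf 1 • w 1, cf 2 • w 2]
  let v3 : Fin 4 → k := (2 : k)⁻¹ • (w 3 + (r 3)⁻¹ • R')
  have hv3 : v3 = cf 0 • w 0 + cf 1 • w 1 + cf 2 • w 2 + w 3 := by
    simp only [v3, cf, ← hr]
    have h3 := hr0 3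
    ext m
    simp
    field_simp
    ring
  have hind : LinearIndependent k (Fin.snoc v v3 : Fin 4 → Fin 4 → k) := by
    rw [Fintype.linearIndependent_iff] at hw ⊢
    intro g hg
    simp [Fin.sum_univ_castSucc, v] at hg
    rw [show g 3 = g (Fin.last 3) from rfl] at *
    rw [hv3] at hg
    have h4 := hw ![g 0 * cf 0 + g (Fin.last 3) * cf 0, g 1 * cf 1 + g (Fin.last 3) * cf 1,
      g 2 * cf 2 + g (Fin.last 3) * cf 2, g (Fin.last 3)] (by
        rw [Fin.sum_univ_four]
        refine Eq.trans ?_ hg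
        simp [smul_add, smul_smul, add_smul]
        abel)
    have g3 : g (Fin.last 3) = 0 := h4 3
    have g3' : g 3 = 0 := g3
    have hc : ∀ i : Fin 3, cf i.castSucc ≠ 0 := by
      intro i
      fin_cases i <;> simp [cf, hr0]
    have e0 := h4 0; have e1 := h4 1; have e2 := h4 2
    simp [g3, g3'] at e0 e1 e2
    intro i
    fin_cases i
    · exact e0.resolve_right (hc 0)
    · exact e1.resolve_right (hc 1)
    · exact e2.resolve_right (hc 2)
    · exact g3
  refine hasRep_of_frame hF (d := 1) v v3 hind (fun i => ?_) ?_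
  · have : ∀ (c : k) (P : Fin 4 → k), eval P F = 0 → eval (c • P) F = 0 := fun c P hP => by
      rw [← aeval_k, show (c • P) = fun m => c * P m from rfl, aeval_scale hF, aeval_k, hP, mul_zero]
    fin_cases i <;> exact this _ _ (hwF _)
  · haveI : CharZero k := inferInstance
    let z := aeval (fun m => algebraMap k (QuadraticAlgebra k 1 0) (v3 m) +
      QuadraticAlgebra.omega * algebraMap k (QuadraticAlgebra k 1 0) ((v 0 + v 1 + v 2) m)) F
    have hsum : v 0 + v 1 + v 2 = v3 - w 3 := by
      rw [hv3]; simp [v]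
    have hcase : ∀ s : k, s * s = 1 → z.re + z.im * s = eval (fun m => v3 m + s * (v 0 + v 1 + v 2) m) F := by
      intro s hs
      let χ : QuadraticAlgebra k 1 0 →ₐ[k] k := QuadraticAlgebra.lift ⟨s, by simp [hs]⟩
      have h1 : χ z = z.re + z.im * s := by simp [χ, QuadraticAlgebra.lift]
      rw [← h1, ← aeval_k, comp_aeval_apply]
      congr 2
      funext m
      simp [χ, QuadraticAlgebra.lift]
      ring
    have p1 := hcase 1 (mul_one 1)
    have p2 := hcase (-1) (by ring)
    have q2 : (fun m => v3 m + -1 * (v 0 + v 1 + v 2) m) = w 3 := by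
      funext m; rw [hsum]; simp
    have q1 : (fun m => v3 m + 1 * (v 0 + v 1 + v 2) m) = fun m => (r 3)⁻¹ * R' m := by
      funext m; rw [hsum]; simp [v3]; ring
    rw [q1, ← aeval_k, aeval_scale hF, aeval_k, hR', mul_zero] at p1
    rw [q2, hwF] at p2
    show z = 0
    ext
    · show z.re = 0
      linear_combination (1 / 2 : k) * p1 + (1 / 2 : k) * p2
    · show z.im = 0
      linear_combination (1 / 2 : k) * p1 - (1 / 2 : k) * p2

/-- The case of a smooth rational point which is not a T-point. -/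
theorem hasRep_of_smooth (ha : a ≠ 0) (hFa : eval a F = 0) (l : (Fin 4 → k) →ₗ[k] k) (hl : ∀ x, l x = polar F a x)
    (hl0 : l ≠ 0)
    (hT : ¬ ∃ L₁ L₂ L₃ : MvPolynomial (Fin 4) (AlgebraicClosure k), L₁.IsHomogeneous 1 ∧ L₂.IsHomogeneous 1 ∧ L₃.IsHomogeneous 1 ∧
      MvPolynomial.map (algebraMap k (AlgebraicClosure k)) F - L₁ * L₂ * L₃ ∈
        Ideal.span {MvPolynomial.map (algebraMap k (AlgebraicClosure k)) (lform l)}) :
    HasRep F := by
  set Q := ∑ i, C (a i) * pderiv i F with hQdef
  have hQeval : ∀ x, eval x Q = polar F x a := fun x => by simp [hQdef, polar, aeval_k]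
  obtain ⟨x₀, hx₀⟩ : ∃ x, l x ≠ 0 := by
    by_contra h; push Not at h; exact hl0 (LinearMap.ext h)
  let b := (l x₀)⁻¹ • x₀
  have hb : l b = 1 := by simp [b, hx₀]
  have hla : l a = 0 := by rw [hl, polar_self hF, aeval_k, hFa, mul_zero]
  -- a basis adapted to the flag
  have hker : Module.finrank k (LinearMap.ker l) = 3 := by
    have h1 := LinearMap.finrank_range_add_finrank_ker l
    rw [LinearMap.range_eq_top.2 (LinearMap.surjective hl0), finrank_top, Module.finrank_self, Module.finrank_fin_fun] at h1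
    omega
  obtain ⟨h₁, hh₁, hh₁'⟩ := SetLike.not_le_iff_exists.1 (not_le_span ![a] (LinearMap.ker l) (by omega))
  obtain ⟨h₂, hh₂, hh₂'⟩ := SetLike.not_le_iff_exists.1 (not_le_span ![a, h₁] (LinearMap.ker l) (by omega))
  have indA : LinearIndependent k (Fin.snoc (Fin.snoc (Fin.snoc (![a] : Fin 1 → Fin 4 → k) h₁) h₂) b : Fin 4 → Fin 4 → k) := by
    refine linearIndependent_finSnoc.2 ⟨linearIndependent_finSnoc.2 ⟨linearIndependent_finSnoc.2 ⟨?_, hh₁'⟩, ?_⟩, ?_⟩
    · exact linearIndependent_unique_iff.2 (by simpa using ha)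
    · intro hm
      refine hh₂' (Submodule.span_mono ?_ hm)
      rintro _ ⟨i, rfl⟩
      fin_cases i <;> simp [Fin.snoc]
    · intro hmem
      have hsub : Submodule.span k (Set.range (Fin.snoc (Fin.snoc (![a] : Fin 1 → Fin 4 → k) h₁) h₂ : Fin 3 → Fin 4 → k)) ≤ LinearMap.ker l := by
        rw [Submodule.span_le]
        rintro _ ⟨i, rfl⟩
        fin_cases i
        · exact hla
        · exact hh₁
        · exact hh₂
      have := hsub hmem
      rw [LinearMap.mem_ker, hb] at this
      exact one_ne_zero this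
  let bA : Module.Basis (Fin 4) k (Fin 4 → k) := basisOfLinearIndependentOfCardEqFinrank indA (by simp)
  let β := bA.coord 1
  let γ := bA.coord 2
  have hdec : ∀ x, proj l b x = fun m => (β x * h₁ m + γ x * h₂ m) + bA.coord 0 x * a m := by
    intro x
    have hx := bA.sum_repr x
    rw [Fin.sum_univ_four] at hx
    have hx' : bA.repr x 0 • a + bA.repr x 1 • h₁ + bA.repr x 2 • h₂ + bA.repr x 3 • b = x := by
      refine Eq.trans ?_ hx
      simp only [bA, coe_basisOfLinearIndependentOfCardEqFinrank]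
      rfl
    have h3 : l x = bA.repr x 3 := by
      conv_lhs => rw [← hx']
      simp [map_add, hla, hb, LinearMap.mem_ker.1 hh₁, LinearMap.mem_ker.1 hh₂]
    rw [proj_apply, h3]
    funext m
    have hm := congrFun hx' m
    simp at hm
    show x m - bA.repr x 3 * b m = (bA.repr x 1 * h₁ m + bA.repr x 2 * h₂ m) + bA.repr x 0 * a m
    linear_combination -hm
  let π := LinearMap.toMatrix' (proj l b)
  have hQ' : ∃ A B C₀ : k, subst π Q = C A * lform β ^ 2 + C B * (lform β * lform γ) + C C₀ * lform γ ^ 2 := by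
    refine ⟨polar F h₁ a, polar F (fun m => h₁ m + h₂ m) a - polar F h₁ a - polar F h₂ a, polar F h₂ a,
      MvPolynomial.funext fun x => ?_⟩
    rw [eval_subst_toMatrix, hQeval, hdec x, polar_shift hF (fun m => β x * h₁ m + γ x * h₂ m) a, polar_combination hF,
      ← hl, map_add, map_add, map_mul, map_mul, map_mul, map_mul, map_pow, map_pow, eval_C, eval_C, eval_C, eval_lform, eval_lform]
    have hz : l (fun m => β x * h₁ m + γ x * h₂ m) = 0 := by
      rw [show (fun m => β x * h₁ m + γ x * h₂ m) = β x • h₁ + γ x • h₂ from rfl]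
      simp [LinearMap.mem_ker.1 hh₁, LinearMap.mem_ker.1 hh₂]
    rw [hz, aeval_k, hFa]
    ring
  have hmod : MvPolynomial.map (algebraMap k (AlgebraicClosure k)) F - MvPolynomial.map (algebraMap k (AlgebraicClosure k)) (subst π F) ∈
      Ideal.span {MvPolynomial.map (algebraMap k (AlgebraicClosure k)) (lform l)} := by
    have h1 : (Ideal.Quotient.mkₐ k (Ideal.span {lform l})).comp (subst π) = Ideal.Quotient.mkₐ k (Ideal.span {lform l}) := by
      refine MvPolynomial.algHom_ext fun i => ?_
      refine Ideal.Quotient.eq.2 (Ideal.mem_span_singleton'.2 ⟨-C (b i), ?_⟩)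
      refine MvPolynomial.funext fun x => ?_
      rw [map_mul, map_neg, eval_C, eval_lform, map_sub]
      show -b i * l x = eval x (subst (LinearMap.toMatrix' (proj l b)) (X i)) - eval x (X i)
      rw [eval_subst_toMatrix, eval_X, eval_X, proj_apply]
      simp
      ring
    have h2 : F - subst π F ∈ Ideal.span {lform l} := Ideal.Quotient.eq.1 (AlgHom.congr_fun h1 F).symm
    rw [← map_sub, show Ideal.span {MvPolynomial.map (algebraMap k (AlgebraicClosure k)) (lform l)} =
      (Ideal.span {lform l}).map (MvPolynomial.map (algebraMap k (AlgebraicClosure k))) by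
        rw [Ideal.map_span, Set.image_singleton]]
    exact Ideal.mem_map_of_mem _ h2
  have hhomK : ∀ g : (Fin 4 → k) →ₗ[k] k,
      (MvPolynomial.map (algebraMap k (AlgebraicClosure k)) (lform g)).IsHomogeneous 1 := fun g => (isHomogeneous_lform g).map _
  have hQ0 : subst π Q ≠ 0 := by
    intro h0
    have hq : ∀ y, polar F (proj l b y) a = 0 := fun y => by
      rw [← hQeval, ← eval_subst_toMatrix, show subst (LinearMap.toMatrix' (proj l b)) Q = 0 from h0, map_zero]
    have hF' : subst π F = C (eval h₁ F) * lform β ^ 3 + C (polar F h₁ h₂) * (lform β ^ 2 * lform γ) +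
        C (polar F h₂ h₁) * (lform β * lform γ ^ 2) + C (eval h₂ F) * lform γ ^ 3 := by
      refine MvPolynomial.funext fun x => ?_
      have hz : l (fun m => β x * h₁ m + γ x * h₂ m) = 0 := by
        rw [show (fun m => β x * h₁ m + γ x * h₂ m) = β x • h₁ + γ x • h₂ from rfl]
        simp [LinearMap.mem_ker.1 hh₁, LinearMap.mem_ker.1 hh₂]
      have hz' : polar F (fun m => β x * h₁ m + γ x * h₂ m) a = 0 := by
        have := hq (fun m => β x * h₁ m + γ x * h₂ m)
        rwa [proj_apply, hz, zero_smul, sub_zero] at this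
      rw [eval_subst_toMatrix, hdec x, ← aeval_k, taylor hF (fun m => β x * h₁ m + γ x * h₂ m) a, ← hl, hz, hz',
        aeval_combination hF]
      simp [eval_lform, aeval_k, hFa]
    obtain ⟨L₁, L₂, L₃, e1, e2, e3, he⟩ := cubic_factor (algebraMap k (AlgebraicClosure k) (eval h₁ F))
      (algebraMap k (AlgebraicClosure k) (polar F h₁ h₂)) (algebraMap k (AlgebraicClosure k) (polar F h₂ h₁))
      (algebraMap k (AlgebraicClosure k) (eval h₂ F)) _ _ (hhomK β) (hhomK γ)
    refine hT ⟨L₁, L₂, L₃, e1, e2, e3, ?_⟩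
    rw [← he]
    convert hmod using 2
    rw [hF']
    simp
  have hno : ∀ Λ : MvPolynomial (Fin 4) k, Λ.IsHomogeneous 1 → subst π F ≠ subst π Q * Λ := by
    intro Λ hΛ h
    obtain ⟨A, B, C₀, hABC⟩ := hQ'
    obtain ⟨L₁, L₂, e1, e2, he⟩ := quadratic_factor (algebraMap k (AlgebraicClosure k) A)
      (algebraMap k (AlgebraicClosure k) B) (algebraMap k (AlgebraicClosure k) C₀) _ _ (hhomK β) (hhomK γ)
    refine hT ⟨L₁, L₂, _, e1, e2, hΛ.map (algebraMap k (AlgebraicClosure k)), ?_⟩
    rw [← he]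
    convert hmod using 2
    rw [h, hABC]
    simp
  have avoid : ∀ Ws : List (Submodule k (Fin 4 → k)), (∀ W ∈ Ws, ∃ (n : ℕ) (v : Fin n → Fin 4 → k),
      n < 3 ∧ W = Submodule.span k (Set.range v)) → ∃ P, eval P F = 0 ∧ l P = 0 ∧ ∀ W ∈ Ws, P ∉ W := by
    intro Ws hWs
    obtain ⟨x, hx, hW⟩ := exists_phi_avoid hF l b (Or.inl hb) hla hQ0 hno Ws (fun W hW => by
      obtain ⟨n, v, hn, rfl⟩ := hWs W hW
      exact not_le_span v _ (by omega))
    exact ⟨phi F a x, (eval_phi hF l hl hFa hx).1, (eval_phi hF l hl hFa hx).2, hW⟩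
  obtain ⟨Q₀, q0, l0, w0⟩ := avoid [Submodule.span k (Set.range ![a])] (fun W hW => ⟨1, _, by omega, List.mem_singleton.1 hW⟩)
  obtain ⟨Q₁, q1, l1, w1⟩ := avoid [Submodule.span k (Set.range ![a, Q₀])] (fun W hW => ⟨2, _, by omega, List.mem_singleton.1 hW⟩)
  obtain ⟨Q₂, q2, l2, w2⟩ := avoid [Submodule.span k (Set.range ![a, Q₀]), Submodule.span k (Set.range ![a, Q₁]),
      Submodule.span k (Set.range ![Q₀, Q₁])] (fun W hW => by
    simp only [List.mem_cons, List.not_mem_nil, or_false] at hW
    rcases hW with rfl | rfl | rfl <;> exact ⟨2, _, by omega, rfl⟩)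
  have n1 := w0 _ (List.mem_singleton_self _)
  have n2 := w1 _ (List.mem_singleton_self _)
  have n3 := w2 _ (List.mem_cons_self ..)
  have n4 := w2 (Submodule.span k (Set.range ![a, Q₁])) (by simp)
  have n5 := w2 (Submodule.span k (Set.range ![Q₀, Q₁])) (by simp)
  simp only [Matrix.range_cons, Matrix.range_empty, Set.union_empty, Set.singleton_union] at n1 n2 n3 n4 n5
  have hQ₀ : Q₀ ≠ 0 := fun h => n1 (by rw [h]; exact Submodule.zero_mem _)
  have ind3 : LinearIndependent k (Fin.snoc (Fin.snoc (![Q₀] : Fin 1 → Fin 4 → k) Q₁) Q₂ : Fin 3 → Fin 4 → k) := by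
    refine linearIndependent_finSnoc.2 ⟨linearIndependent_finSnoc.2 ⟨linearIndependent_unique_iff.2 (by simpa using hQ₀), ?_⟩, ?_⟩
    · intro hm
      simp only [Matrix.range_cons, Matrix.range_empty, Set.union_empty] at hm
      exact n2 (Submodule.span_mono (by simp) hm)
    · intro hm
      refine n5 (Submodule.span_mono ?_ hm)
      rintro _ ⟨i, rfl⟩
      fin_cases i <;> simp [Fin.snoc]
  have hspan : Submodule.span k (Set.range (Fin.snoc (Fin.snoc (![Q₀] : Fin 1 → Fin 4 → k) Q₁) Q₂ : Fin 3 → Fin 4 → k)) = LinearMap.ker l := by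
    refine Submodule.eq_of_le_of_finrank_le (Submodule.span_le.2 ?_) ?_
    · rintro _ ⟨i, rfl⟩
      fin_cases i
      · exact l0
      · exact l1
      · exact l2
    · rw [hker, finrank_span_eq_card ind3, Fintype.card_fin]
  obtain ⟨α, hα⟩ := (Submodule.mem_span_range_iff_exists_fun k).1 (hspan ▸ (LinearMap.mem_ker.2 hla) : a ∈ Submodule.span k _)
  rw [Fin.sum_univ_three] at hα
  replace hα : α 0 • Q₀ + α 1 • Q₁ + α 2 • Q₂ = a := hα
  have sw : ∀ (c : k) (P : Fin 4 → k) (s : Set (Fin 4 → k)), c ≠ 0 → c • P ∈ Submodule.span k s → P ∈ Submodule.span k s :=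
    fun c P s hc h => (Submodule.smul_mem_iff _ hc).1 h
  have am : ∀ P : Fin 4 → k, a ∈ Submodule.span k ({a, P} : Set (Fin 4 → k)) ∧ P ∈ Submodule.span k ({a, P} : Set (Fin 4 → k)) :=
    fun P => ⟨Submodule.subset_span (by simp), Submodule.subset_span (by simp)⟩
  have α2 : α 2 ≠ 0 := by
    intro h
    rw [h, zero_smul, add_zero] at hα
    by_cases h1 : α 1 = 0
    · rw [h1, zero_smul, add_zero] at hα
      by_cases h0 : α 0 = 0
      · rw [h0, zero_smul] at hα; exact ha hα.symm
      · exact n1 (sw _ _ _ h0 (by rw [hα]; exact Submodule.subset_span rfl))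
    · refine n2 (sw _ _ _ h1 ?_)
      rw [show α 1 • Q₁ = a - α 0 • Q₀ by rw [← hα]; abel]
      exact sub_mem (am Q₀).1 (Submodule.smul_mem _ _ (am Q₀).2)
  have α0 : α 0 ≠ 0 := by
    intro h
    rw [h, zero_smul, zero_add] at hα
    refine n4 (sw _ _ _ α2 ?_)
    rw [show α 2 • Q₂ = a - α 1 • Q₁ by rw [← hα]; abel]
    exact sub_mem (am Q₁).1 (Submodule.smul_mem _ _ (am Q₁).2)
  have α1 : α 1 ≠ 0 := by
    intro h
    rw [h, zero_smul, add_zero] at hα
    refine n3 (sw _ _ _ α2 ?_)
    rw [show α 2 • Q₂ = a - α 0 • Q₀ by rw [← hα]; abel]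
    exact sub_mem (am Q₀).1 (Submodule.smul_mem _ _ (am Q₀).2)
  let m : k := -polar F b a / 2
  let v3 : Fin 4 → k := fun j => b j + m * a j
  let v : Fin 3 → Fin 4 → k := ![α 0 • Q₀, α 1 • Q₁, α 2 • Q₂]
  have hv3l : l v3 = 1 := by
    rw [show v3 = b + m • a from rfl]
    simp [hla, hb]
  have hind : LinearIndependent k (Fin.snoc v v3 : Fin 4 → Fin 4 → k) := by
    refine linearIndependent_finSnoc.2 ⟨?_, fun hm => ?_⟩
    · have := ind3.units_smul ![Units.mk0 _ α0, Units.mk0 _ α1, Units.mk0 _ α2]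
      have hv : v = (![Units.mk0 _ α0, Units.mk0 _ α1, Units.mk0 _ α2] : Fin 3 → kˣ) •
          (Fin.snoc (Fin.snoc (![Q₀] : Fin 1 → Fin 4 → k) Q₁) Q₂ : Fin 3 → Fin 4 → k) := by
        funext i
        fin_cases i <;> rfl
      rw [hv]
      exact this
    · have hle : Submodule.span k (Set.range v) ≤ LinearMap.ker l := by
        rw [Submodule.span_le]
        rintro _ ⟨i, rfl⟩
        fin_cases i
        · exact Submodule.smul_mem _ _ (LinearMap.mem_ker.2 l0)
        · exact Submodule.smul_mem _ _ (LinearMap.mem_ker.2 l1)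
        · exact Submodule.smul_mem _ _ (LinearMap.mem_ker.2 l2)
      have := hle hm
      rw [LinearMap.mem_ker, hv3l] at this
      exact one_ne_zero this
  let d : k := -(eval b F + m * polar F b a + m ^ 2)
  refine hasRep_of_frame hF (d := d) v v3 hind (fun i => ?_) ?_
  · have : ∀ (c : k) (P : Fin 4 → k), eval P F = 0 → eval (c • P) F = 0 := fun c P hP => by
      rw [← aeval_k, show (c • P) = fun m => c * P m from rfl, aeval_scale hF, aeval_k, hP, mul_zero]
    fin_cases i
    · exact this _ _ q0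
    · exact this _ _ q1
    · exact this _ _ q2
  · let T : (QuadraticAlgebra k d 0) := algebraMap k (QuadraticAlgebra k d 0) m + QuadraticAlgebra.omega
    have hsum : v 0 + v 1 + v 2 = a := hα
    rw [hsum, show (fun j => algebraMap k (QuadraticAlgebra k d 0) (v3 j) + QuadraticAlgebra.omega * algebraMap k (QuadraticAlgebra k d 0) (a j)) =
      fun j => algebraMap k (QuadraticAlgebra k d 0) (b j) + T * algebraMap k (QuadraticAlgebra k d 0) (a j) from funext fun j => by
        simp only [v3, T, map_add, map_mul]; ring]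
    have hev' : ∀ (p : MvPolynomial (Fin 4) k) (u : Fin 4 → k),
        aeval (fun j => algebraMap k (QuadraticAlgebra k d 0) (u j)) p = algebraMap k (QuadraticAlgebra k d 0) (eval u p) := fun p u =>
      (aeval_algebraMap_apply (QuadraticAlgebra k d 0) u p).trans (by rw [aeval_k])
    have hpol : ∀ u v : Fin 4 → k, polar F (fun j => algebraMap k (QuadraticAlgebra k d 0) (u j)) (fun j => algebraMap k (QuadraticAlgebra k d 0) (v j)) = algebraMap k (QuadraticAlgebra k d 0) (polar F u v) := by
      intro u v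
      simp only [polar, map_sum, map_mul, aeval_k]
      exact Finset.sum_congr rfl fun i _ => congrArg _ (hev' _ _)
    have hev : ∀ u : Fin 4 → k, aeval (fun j => algebraMap k (QuadraticAlgebra k d 0) (u j)) F = algebraMap k (QuadraticAlgebra k d 0) (eval u F) := fun u =>
      hev' F u
    rw [taylor hF, hpol, hpol, ← hl, hb, hev, hev, hFa, map_zero,
      mul_zero, add_zero, map_one, mul_one]
    have h2 : (2 : k) ≠ 0 := two_ne_zero
    ext
    · simp [T, d, pow_two]
    · simp [T, pow_two, m]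

end CubicPfaff
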