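import Mathlib.RingTheory.MvPolynomial.Homogeneous
import Mathlib.Algebra.MvPolynomial.PDeriv
import Mathlib.Algebra.MvPolynomial.Funext
import Mathlib.LinearAlgebra.Matrix.Determinant.Basic
import Mathlib.LinearAlgebra.Matrix.NonsingularInverse
import Mathlib.Algebra.QuadraticAlgebra.Basic
import Mathlib.Tactic

/-! # Cubic forms through five points in general position are Pfaffians -/

set_option autoImplicit false

universe u

open MvPolynomial Matrix

namespace CubicPfaff

variable {R : Type*} [CommRing R]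

/-- The alternating matrix with first row `L` bordering the resolution matrix of five points. -/
def pfMat (L : Fin 5 → R) (u v w t d : R) : Matrix (Fin 6) (Fin 6) R :=
  !![0, L 0, L 1, L 2, L 3, L 4;
     -L 0, 0, -(d * t), w, -v, -v + w;
     -L 1, d * t, 0, 0, -v, u - v;
     -L 2, -w, 0, 0, t, 0;
     -L 3, v, v, -t, 0, 0;
     -L 4, v - w, -u + v, 0, 0, 0]

set_option maxHeartbeats 4000000 in
theorem det_pfMat (L : Fin 5 → R) (u v w t d : R) :
    (pfMat L u v w t d).det = (L 0 * ((u - v) * t) + L 1 * ((v - w) * t) + L 2 * (v * (u - w)) +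
      L 3 * (w * (u - v)) + L 4 * (v * w - d * t ^ 2)) ^ 2 := by
  simp [pfMat, Matrix.det_succ_row_zero, Fin.sum_univ_succ, Fin.succAbove]
  ring

theorem transpose_pfMat (L : Fin 5 → R) (u v w t d : R) :
    (pfMat L u v w t d)ᵀ = -pfMat L u v w t d := by
  ext i j
  fin_cases i <;> fin_cases j <;> simp [pfMat] <;> ring

variable {k : Type u} [Field k]

/-- Linear Pfaffian representability. -/
def HasRep (F : MvPolynomial (Fin 4) k) : Prop :=
  ∃ M : Matrix (Fin 6) (Fin 6) (MvPolynomial (Fin 4) k), (∀ i j, (M i j).IsHomogeneous 1) ∧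
    M.transpose = -M ∧ (∀ i, M i i = 0) ∧ ∃ c : k, c ≠ 0 ∧ M.det = C c * F ^ 2

local notation "x0" => (X (0 : Fin 4) : MvPolynomial (Fin 4) k)
local notation "x1" => (X (1 : Fin 4) : MvPolynomial (Fin 4) k)
local notation "x2" => (X (2 : Fin 4) : MvPolynomial (Fin 4) k)
local notation "x3" => (X (3 : Fin 4) : MvPolynomial (Fin 4) k)

/-- The five quadrics through the five points. -/
noncomputable def quad (d : k) : Fin 5 → MvPolynomial (Fin 4) k :=
  ![(x0 - x1) * x3, (x1 - x2) * x3, x1 * (x0 - x2), x2 * (x0 - x1), x1 * x2 - C d * x3 ^ 2]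

/-- Cubics in the ideal of the five points, plus five normal monomials. -/
def Good (d : k) (p : MvPolynomial (Fin 4) k) : Prop :=
  ∃ (L : Fin 5 → MvPolynomial (Fin 4) k) (c : Fin 5 → k), (∀ i, (L i).IsHomogeneous 1) ∧
    p = ∑ i, L i * quad d i + (C (c 0) * x0 ^ 3 + C (c 1) * x1 ^ 3 + C (c 2) * x2 ^ 3 + C (c 3) * x3 ^ 3 +
      C (c 4) * (x2 * x3 ^ 2))

variable {d : k}

theorem Good.add {p q : MvPolynomial (Fin 4) k} (hp : Good d p) (hq : Good d q) : Good d (p + q) := by
  obtain ⟨L, c, hL, rfl⟩ := hp
  obtain ⟨L', c', hL', rfl⟩ := hq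
  refine ⟨L + L', c + c', fun i => (hL i).add (hL' i), ?_⟩
  simp only [Pi.add_apply, add_mul, Finset.sum_add_distrib, C_add]
  ring

theorem Good.smul {p : MvPolynomial (Fin 4) k} (r : k) (hp : Good d p) : Good d (C r * p) := by
  obtain ⟨L, c, hL, rfl⟩ := hp
  refine ⟨fun i => C r * L i, fun i => r * c i, fun i => (hL i).C_mul r, ?_⟩
  simp only [mul_add, Finset.mul_sum, C_mul, mul_assoc]

theorem Good.zero : Good d 0 :=
  ⟨0, 0, fun _ => isHomogeneous_zero _ _ _, by simp⟩

theorem good_mul (i : Fin 4) (j : Fin 5) : Good d (X i * quad d j) := by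
  refine ⟨Pi.single j (X i), 0, fun l => ?_, ?_⟩
  · rcases eq_or_ne l j with rfl | h
    · simpa using isHomogeneous_X k i
    · simpa [h] using isHomogeneous_zero (Fin 4) k 1
  · simp [Pi.single_apply]

theorem good_n (j : Fin 5) :
    Good d (![x0 ^ 3, x1 ^ 3, x2 ^ 3, x3 ^ 3, x2 * x3 ^ 2] j) := by
  refine ⟨0, Pi.single j 1, fun _ => isHomogeneous_zero _ _ _, ?_⟩
  fin_cases j <;> simp [Pi.single_apply]

theorem good_monomial (i j l : Fin 4) : Good d (X i * X j * X l) := by
  have A := fun i => good_mul (d := d) i 0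
  have B := fun i => good_mul (d := d) i 1
  have C' := fun i => good_mul (d := d) i 2
  have E := fun i => good_mul (d := d) i 3
  have G := fun i => good_mul (d := d) i 4
  have n3 : Good d (x3 ^ 3) := good_n 3
  have n4 : Good d (x2 * x3 ^ 2) := good_n 4
  have s001 : Good d (x0 * x0 * x1) := by
    convert ((C' 0).add (G 0)).add ((((A 3).add (B 3)).add n4).smul d) using 1
    simp [quad]; ring
  have s011 : Good d (x0 * x1 * x1) := by
    convert ((C' 1).add (G 1)).add (((B 3).add n4).smul d) using 1
    simp [quad]; ring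
  have s002 : Good d (x0 * x0 * x2) := by
    convert ((E 0).add (G 0)).add ((((A 3).add (B 3)).add n4).smul d) using 1
    simp [quad]; ring
  have s022 : Good d (x0 * x2 * x2) := by
    convert ((E 2).add (G 2)).add (n4.smul d) using 1
    simp [quad]; ring
  have s112 : Good d (x1 * x1 * x2) := by
    convert (G 1).add (((B 3).add n4).smul d) using 1
    simp [quad]; ring
  have s122 : Good d (x1 * x2 * x2) := by
    convert (G 2).add (n4.smul d) using 1
    simp [quad]; ring
  have s012 : Good d (x0 * x1 * x2) := by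
    convert ((C' 2).add (G 2)).add (n4.smul d) using 1
    simp [quad]; ring
  have s033 : Good d (x0 * x3 * x3) := by
    convert ((A 3).add (B 3)).add n4 using 1
    simp [quad]; ring
  have s133 : Good d (x1 * x3 * x3) := by
    convert (B 3).add n4 using 1
    simp [quad]; ring
  have s233 : Good d (x2 * x3 * x3) := by
    convert n4 using 1
    ring
  have s003 : Good d (x0 * x0 * x3) := by
    convert ((((E 3).add (G 3)).add (n3.smul d)).add ((A 0).add (B 0))) using 1
    simp [quad]; ring
  have s113 : Good d (x1 * x1 * x3) := by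
    convert (((G 3).add (n3.smul d)).add (B 1)) using 1
    simp [quad]; ring
  have s223 : Good d (x2 * x2 * x3) := by
    convert (((G 3).add (n3.smul d)).add ((B 2).smul (-1))) using 1
    simp [quad]; ring
  have s013 : Good d (x0 * x1 * x3) := by
    convert (((C' 3).add (G 3)).add (n3.smul d)) using 1
    simp [quad]; ring
  have s023 : Good d (x0 * x2 * x3) := by
    convert (((E 3).add (G 3)).add (n3.smul d)) using 1
    simp [quad]; ring
  have s123 : Good d (x1 * x2 * x3) := by
    convert ((G 3).add (n3.smul d)) using 1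
    simp [quad]; ring
  have sdiag : ∀ a : Fin 4, Good d (X a * X a * X a) := fun a => by
    rw [show (X a * X a * X a : MvPolynomial (Fin 4) k) = X a ^ 3 by ring]
    fin_cases a
    · exact good_n 0
    · exact good_n 1
    · exact good_n 2
    · exact good_n 3
  have key : ∀ a b c : Fin 4, a ≤ b → b ≤ c → Good d (X a * X b * X c) := by
    intro a b c hab hbc
    fin_cases a <;> fin_cases b <;> fin_cases c <;> simp_all <;> exact sdiag _
  rcases le_total i j with h1 | h1 <;> rcases le_total j l with h2 | h2 <;> rcases le_total i l with h3 | h3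
  all_goals first
    | exact key i j l (by assumption) (by assumption)
    | (rw [show (X i * X j * X l : MvPolynomial (Fin 4) k) = X i * X l * X j by ring]; exact key i l j (by assumption) (by assumption))
    | (rw [show (X i * X j * X l : MvPolynomial (Fin 4) k) = X j * X i * X l by ring]; exact key j i l (by assumption) (by assumption))
    | (rw [show (X i * X j * X l : MvPolynomial (Fin 4) k) = X j * X l * X i by ring]; exact key j l i (by assumption) (by assumption))
    | (rw [show (X i * X j * X l : MvPolynomial (Fin 4) k) = X l * X i * X j by ring]; exact key l i j (by assumption) (by assumption))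
    | (rw [show (X i * X j * X l : MvPolynomial (Fin 4) k) = X l * X j * X i by ring]; exact key l j i (by assumption) (by assumption))

/-- Induction for cubic forms. -/
@[elab_as_elim]
theorem cubic_induction {P : MvPolynomial (Fin 4) k → Prop} (hmon : ∀ (r : k) i j l, P (C r * (X i * X j * X l)))
    (hadd : ∀ p q, P p → P q → P (p + q)) (h0 : P 0) {F : MvPolynomial (Fin 4) k} (hF : F.IsHomogeneous 3) : P F := by
  have hlin : ∀ p ∈ homogeneousSubmodule (Fin 4) k 1, ∃ c : Fin 4 → k, p = ∑ i, C (c i) * X i := by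
    intro p hp
    rw [homogeneousSubmodule_one_eq_span_X, Submodule.mem_span_range_iff_exists_fun] at hp
    obtain ⟨c, hc⟩ := hp
    exact ⟨c, by rw [← hc]; simp [smul_eq_C_mul]⟩
  have hmem : F ∈ homogeneousSubmodule (Fin 4) k 1 * homogeneousSubmodule (Fin 4) k 1 * homogeneousSubmodule (Fin 4) k 1 := by
    rw [← pow_two, ← pow_succ, homogeneousSubmodule_one_pow]
    exact hF
  have hsum : ∀ (ι : Type) (s : Finset ι) (f : ι → MvPolynomial (Fin 4) k), (∀ i ∈ s, P (f i)) → P (∑ i ∈ s, f i) :=
    fun ι s f h => Finset.sum_induction f P hadd h0 h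
  refine Submodule.mul_induction_on hmem (fun a ha b hb => ?_) (fun p q => hadd p q)
  obtain ⟨c, rfl⟩ := hlin b hb
  refine Submodule.mul_induction_on ha (fun a₁ h₁ a₂ h₂ => ?_) (fun p q hp hq => by rw [add_mul]; exact hadd _ _ hp hq)
  obtain ⟨c₁, rfl⟩ := hlin a₁ h₁
  obtain ⟨c₂, rfl⟩ := hlin a₂ h₂
  simp only [Finset.sum_mul, Finset.mul_sum]
  refine hsum _ _ _ fun l _ => hsum _ _ _ fun j _ => hsum _ _ _ fun i _ => ?_
  convert hmon (c₁ i * c₂ j * c l) i j l using 1
  simp only [C_mul]; ring

/-- A cubic through the five points `e₀, e₁, e₂, (ω,ω,ω,1)` (`ω² = d`) is a Pfaffian. -/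
theorem hasRep_of_fivePoints {F : MvPolynomial (Fin 4) k} (hF : F.IsHomogeneous 3)
    (h0 : ∀ i : Fin 3, eval (Pi.single i.castSucc 1) F = 0)
    (hω : aeval ![(QuadraticAlgebra.omega : QuadraticAlgebra k d 0), QuadraticAlgebra.omega, QuadraticAlgebra.omega, 1] F = 0) :
    HasRep F := by
  have hgood : Good d F := cubic_induction (fun r i j l => (good_monomial i j l).smul r) (fun p q => Good.add) Good.zero hF
  obtain ⟨L, c, hL, hFeq⟩ := hgood
  have e0 := h0 0; have e1 := h0 1; have e2 := h0 2
  rw [hFeq] at e0 e1 e2 hω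
  simp [Fin.sum_univ_five, quad, Pi.single_apply] at e0 e1 e2
  simp [Fin.sum_univ_five, quad, e0, e1, e2] at hω
  have hwq : (QuadraticAlgebra.omega : QuadraticAlgebra k d 0) * QuadraticAlgebra.omega = algebraMap k _ d := by
    ext <;> simp
  have e3 : c 3 = 0 ∧ c 4 = 0 := by
    have h := hω
    simp [QuadraticAlgebra.ext_iff] at h
    exact h
  have hF' : F = ∑ i, L i * quad d i := by
    rw [hFeq, e0, e1, e2, e3.1, e3.2]; simp
  refine ⟨pfMat L x0 x1 x2 x3 (C d), fun i j => ?_, transpose_pfMat .., fun i => ?_, 1, one_ne_zero, ?_⟩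
  · fin_cases i <;> fin_cases j <;> simp [pfMat] <;>
      first
        | exact hL _
        | exact (hL _).neg
        | exact isHomogeneous_zero _ _ _
        | exact isHomogeneous_X _ _
        | exact (isHomogeneous_X _ _).neg
        | exact (isHomogeneous_C_mul_X _ _)
        | exact (isHomogeneous_C_mul_X _ _).neg
        | exact (isHomogeneous_X _ _).neg.add (isHomogeneous_X _ _)
        | exact (isHomogeneous_X _ _).sub (isHomogeneous_X _ _)
  · fin_cases i <;> simp [pfMat]
  · rw [det_pfMat, map_one, one_mul, hF']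
    simp [Fin.sum_univ_five, quad]

/-- Linear change of variables. -/
noncomputable def subst (B : Matrix (Fin 4) (Fin 4) k) : MvPolynomial (Fin 4) k →ₐ[k] MvPolynomial (Fin 4) k :=
  aeval fun i => ∑ j, C (B i j) * X j

theorem isHomogeneous_subst (B : Matrix (Fin 4) (Fin 4) k) {p : MvPolynomial (Fin 4) k} {n : ℕ}
    (hp : p.IsHomogeneous n) : (subst B p).IsHomogeneous n := by
  have h := hp.aeval (n := 1) (fun i => ∑ j, C (B i j) * X j) fun i =>
    IsHomogeneous.sum _ _ _ fun j _ => isHomogeneous_C_mul_X _ _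
  rwa [one_mul] at h

theorem aeval_subst {S : Type*} [CommRing S] [Algebra k S] (B : Matrix (Fin 4) (Fin 4) k) (x : Fin 4 → S)
    (p : MvPolynomial (Fin 4) k) :
    aeval x (subst B p) = aeval (fun i => ∑ j, algebraMap k S (B i j) * x j) p := by
  rw [subst, comp_aeval_apply]
  simp

theorem HasRep.of_subst {F : MvPolynomial (Fin 4) k} {B : Matrix (Fin 4) (Fin 4) k} (hB : IsUnit B.det)
    (h : HasRep (subst B F)) : HasRep F := by
  obtain ⟨M, h1, h2, h3, c, hc, hdet⟩ := h
  have hinv : ∀ p, subst B⁻¹ (subst B p) = p := by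
    have : (subst B⁻¹).comp (subst B) = AlgHom.id k (MvPolynomial (Fin 4) k) := by
      refine MvPolynomial.algHom_ext fun i => ?_
      show subst B⁻¹ (subst B (X i)) = X i
      have hmul := Matrix.mul_nonsing_inv B hB
      simp only [subst, aeval_X, map_sum, map_mul, aeval_C, algebraMap_eq, Finset.mul_sum, ← mul_assoc]
      simp only [← map_mul]
      rw [Finset.sum_comm]
      simp only [← Finset.sum_mul, ← map_sum, ← Matrix.mul_apply, hmul]
      simp [Matrix.one_apply]
    exact fun p => AlgHom.congr_fun this p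
  refine ⟨M.map (subst B⁻¹), fun i j => isHomogeneous_subst _ (h1 i j), ?_, fun i => by simp [h3 i], c, hc, ?_⟩
  · rw [← Matrix.transpose_map, h2]
    ext i j
    simp
  · rw [← AlgHom.mapMatrix_apply, ← AlgHom.map_det, hdet, map_mul, map_pow, hinv]
    simp [subst]

end CubicPfaff
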