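import Groth.Agent.CubicPfaff.Core
import Mathlib.RingTheory.MvPolynomial.EulerIdentity
import Mathlib.RingTheory.Ideal.Quotient.Operations
import Mathlib.Algebra.MvPolynomial.Nilpotent
import Mathlib.FieldTheory.IsAlgClosed.Basic
import Mathlib.LinearAlgebra.Dimension.Finrank

/-! # Rational points on a cubic surface with a rational point which is not a T-point -/

set_option autoImplicit false

universe u

open MvPolynomial Matrix

namespace CubicPfaff

variable {k : Type u} [Field k]

section Polar

variable {A : Type*} [CommRing A] [Algebra k A]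

/-- The polar `Σ yᵢ ∂ᵢF(x)`. -/
noncomputable def polar (F : MvPolynomial (Fin 4) k) (x y : Fin 4 → A) : A :=
  ∑ i, y i * aeval x (pderiv i F)

theorem polar_add (p q : MvPolynomial (Fin 4) k) (x y : Fin 4 → A) :
    polar (p + q) x y = polar p x y + polar q x y := by
  simp [polar, mul_add, Finset.sum_add_distrib]

theorem polar_zero (x y : Fin 4 → A) : polar (0 : MvPolynomial (Fin 4) k) x y = 0 := by
  simp [polar]

theorem polar_monomial (r : k) (i j l : Fin 4) (x y : Fin 4 → A) :
    polar (C r * (X i * X j * X l)) x y =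
      algebraMap k A r * (y i * x j * x l + x i * y j * x l + x i * x j * y l) := by
  simp [polar, pderiv_X, Pi.single_apply, apply_ite (aeval x), mul_add, Finset.sum_add_distrib, mul_ite, ite_mul]
  ring

variable {F : MvPolynomial (Fin 4) k} (hF : F.IsHomogeneous 3)
include hF

theorem taylor (x y : Fin 4 → A) (t : A) :
    aeval (fun m => x m + t * y m) F =
      aeval x F + t * polar F x y + t ^ 2 * polar F y x + t ^ 3 * aeval y F := by
  refine cubic_induction (fun r i j l => ?_) (fun p q hp hq => ?_) ?_ hF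
  · simp [polar_monomial]
    ring
  · simp only [map_add, polar_add, hp, hq]
    ring
  · simp [polar_zero]

theorem polar_shift (x y : Fin 4 → A) (t : A) :
    polar F (fun m => x m + t * y m) y = polar F x y + 2 * t * polar F y x + 3 * t ^ 2 * aeval y F := by
  refine cubic_induction (fun r i j l => ?_) (fun p q hp hq => ?_) ?_ hF
  · simp [polar_monomial]
    ring
  · simp only [map_add, polar_add, hp, hq]
    ring
  · simp [polar_zero]

theorem aeval_scale (x : Fin 4 → A) (t : A) : aeval (fun m => t * x m) F = t ^ 3 * aeval x F := by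
  refine cubic_induction (fun r i j l => ?_) (fun p q hp hq => ?_) ?_ hF
  · simp
    ring
  · simp only [map_add, hp, hq]
    ring
  · simp [polar_zero]

theorem polar_scale_left (x y : Fin 4 → A) (t : A) : polar F (fun m => t * x m) y = t ^ 2 * polar F x y := by
  refine cubic_induction (fun r i j l => ?_) (fun p q hp hq => ?_) ?_ hF
  · simp [polar_monomial]
    ring
  · simp only [polar_add, hp, hq]
    ring
  · simp [polar_zero]

theorem polar_self (x : Fin 4 → A) : polar F x x = 3 * aeval x F := by
  refine cubic_induction (fun r i j l => ?_) (fun p q hp hq => ?_) ?_ hF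
  · simp [polar_monomial]
    ring
  · simp only [map_add, polar_add, hp, hq]
    ring
  · simp [polar_zero]

theorem polar_combination (u v y : Fin 4 → A) (b c : A) :
    polar F (fun m => b * u m + c * v m) y = b ^ 2 * polar F u y + c ^ 2 * polar F v y +
      b * c * (polar F (fun m => u m + v m) y - polar F u y - polar F v y) := by
  refine cubic_induction (fun r i j l => ?_) (fun p q hp hq => ?_) ?_ hF
  · simp [polar_monomial]
    ring
  · simp only [polar_add, hp, hq]
    ring
  · simp [polar_zero]

theorem aeval_combination (u v : Fin 4 → A) (b c : A) :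
    aeval (fun m => b * u m + c * v m) F =
      aeval u F * b ^ 3 + polar F u v * (b ^ 2 * c) + polar F v u * (b * c ^ 2) + aeval v F * c ^ 3 := by
  refine cubic_induction (fun r i j l => ?_) (fun p q hp hq => ?_) ?_ hF
  · simp [polar_monomial]
    ring
  · simp only [map_add, polar_add, hp, hq]
    ring
  · simp [polar_zero]

end Polar

theorem aeval_k (x : Fin 4 → k) (p : MvPolynomial (Fin 4) k) : aeval x p = eval x p := by
  rw [aeval_eq_eval]

/-- `x ↦ Σ cⱼ xⱼ` as a polynomial. -/
noncomputable def lform (l : (Fin 4 → k) →ₗ[k] k) : MvPolynomial (Fin 4) k :=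
  ∑ j, C (l (Pi.single j 1)) * X j

theorem eval_lform (l : (Fin 4 → k) →ₗ[k] k) (x : Fin 4 → k) : eval x (lform l) = l x := by
  conv_rhs => rw [pi_eq_sum_univ' x]
  simp [lform, mul_comm]

theorem isHomogeneous_lform (l : (Fin 4 → k) →ₗ[k] k) : (lform l).IsHomogeneous 1 :=
  IsHomogeneous.sum _ _ _ fun j _ => isHomogeneous_C_mul_X _ _

theorem eval_subst_toMatrix (π : (Fin 4 → k) →ₗ[k] (Fin 4 → k)) (x : Fin 4 → k) (p : MvPolynomial (Fin 4) k) :
    eval x (subst (LinearMap.toMatrix' π) p) = eval (π x) p := by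
  rw [← aeval_k, aeval_subst, ← aeval_k]
  congr 2
  funext i
  have := congrFun (LinearMap.toMatrix'_mulVec π x) i
  simpa [Matrix.mulVec, dotProduct] using this

/-- A frame with three points and a conjugate pair on the surface gives a Pfaffian representation. -/
theorem hasRep_of_frame {F : MvPolynomial (Fin 4) k} (hF : F.IsHomogeneous 3) {d : k} (v : Fin 3 → Fin 4 → k)
    (v3 : Fin 4 → k) (hind : LinearIndependent k (Fin.snoc v v3 : Fin 4 → Fin 4 → k))
    (hv : ∀ i, eval (v i) F = 0)
    (hω : aeval (fun m => algebraMap k (QuadraticAlgebra k d 0) (v3 m) +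
      QuadraticAlgebra.omega * algebraMap k (QuadraticAlgebra k d 0) ((v 0 + v 1 + v 2) m)) F = 0) :
    HasRep F := by
  let B : Matrix (Fin 4) (Fin 4) k := Matrix.of fun i j => (Fin.snoc v v3 : Fin 4 → Fin 4 → k) j i
  have hB : IsUnit B.det := by
    rw [← Matrix.isUnit_iff_isUnit_det]
    exact Matrix.linearIndependent_cols_iff_isUnit.1 hind
  refine HasRep.of_subst hB (hasRep_of_fivePoints (d := d) (isHomogeneous_subst B hF) (fun i => ?_) ?_)
  · rw [← aeval_k, aeval_subst, aeval_k]
    convert hv i using 2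
    refine congrArg eval (funext fun m => ?_)
    simp [B, Pi.single_apply, apply_ite (algebraMap k k)]
  · rw [aeval_subst]
    refine Eq.trans ?_ hω
    congr 2
    funext m
    simp [Fin.sum_univ_castSucc, B]
    rw [show (3 : Fin 4) = Fin.last 3 from rfl, Fin.snoc_last]
    ring

/-- A binary quadratic form over an algebraically closed field is a product of two linear forms. -/
theorem quadratic_factor {K : Type*} [Field K] [IsAlgClosed K] (A B C₀ : K)
    (β γ : MvPolynomial (Fin 4) K) (hβ : β.IsHomogeneous 1) (hγ : γ.IsHomogeneous 1) :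
    ∃ L₁ L₂ : MvPolynomial (Fin 4) K, L₁.IsHomogeneous 1 ∧ L₂.IsHomogeneous 1 ∧
      C A * β ^ 2 + C B * (β * γ) + C C₀ * γ ^ 2 = L₁ * L₂ := by
  by_cases hA : A = 0
  · exact ⟨γ, C B * β + C C₀ * γ, hγ, (hβ.C_mul _).add (hγ.C_mul _), by rw [hA, C_0]; ring⟩
  · obtain ⟨r, hr⟩ := IsAlgClosed.exists_root (Polynomial.C A * Polynomial.X ^ 2 + Polynomial.C B * Polynomial.X + Polynomial.C C₀)
      (by rw [Polynomial.degree_quadratic hA]; decide)
    simp only [Polynomial.IsRoot, Polynomial.eval_add, Polynomial.eval_mul, Polynomial.eval_C, Polynomial.eval_pow,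
      Polynomial.eval_X] at hr
    refine ⟨β - C r * γ, C A * β + C (A * r + B) * γ, hβ.sub (hγ.C_mul _), (hβ.C_mul _).add (hγ.C_mul _), ?_⟩
    have e : C₀ = -(A * r ^ 2 + B * r) := by linear_combination hr
    rw [e]
    simp only [map_add, map_mul, map_neg, map_pow]
    ring

/-- A binary cubic form over an algebraically closed field is a product of three linear forms. -/
theorem cubic_factor {K : Type*} [Field K] [IsAlgClosed K] (A B C₀ D : K)
    (β γ : MvPolynomial (Fin 4) K) (hβ : β.IsHomogeneous 1) (hγ : γ.IsHomogeneous 1) :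
    ∃ L₁ L₂ L₃ : MvPolynomial (Fin 4) K, L₁.IsHomogeneous 1 ∧ L₂.IsHomogeneous 1 ∧ L₃.IsHomogeneous 1 ∧
      C A * β ^ 3 + C B * (β ^ 2 * γ) + C C₀ * (β * γ ^ 2) + C D * γ ^ 3 = L₁ * L₂ * L₃ := by
  by_cases hA : A = 0
  · obtain ⟨L₁, L₂, h1, h2, h⟩ := quadratic_factor B C₀ D β γ hβ hγ
    refine ⟨L₁, L₂, γ, h1, h2, hγ, ?_⟩
    rw [← h, hA, C_0]
    ring
  · obtain ⟨r, hr⟩ := IsAlgClosed.exists_root
      (Polynomial.C A * Polynomial.X ^ 3 + Polynomial.C B * Polynomial.X ^ 2 + Polynomial.C C₀ * Polynomial.X + Polynomial.C D)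
      (by rw [Polynomial.degree_cubic hA]; decide)
    simp only [Polynomial.IsRoot, Polynomial.eval_add, Polynomial.eval_mul, Polynomial.eval_C, Polynomial.eval_pow,
      Polynomial.eval_X] at hr
    obtain ⟨L₁, L₂, h1, h2, h⟩ := quadratic_factor A (B + A * r) (C₀ + B * r + A * r ^ 2) β γ hβ hγ
    refine ⟨β - C r * γ, L₁, L₂, hβ.sub (hγ.C_mul _), h1, h2, ?_⟩
    have e : D = -(A * r ^ 3 + B * r ^ 2 + C₀ * r) := by linear_combination hr
    rw [mul_assoc (β - C r * γ), ← h, e]
    simp only [map_add, map_mul, map_neg, map_pow]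
    ring

section Points

variable [Infinite k] {F : MvPolynomial (Fin 4) k} (hF : F.IsHomogeneous 3) {a : Fin 4 → k}
  (l : (Fin 4 → k) →ₗ[k] k) (b : Fin 4 → k)

/-- The point on the line through `a` and `x`. -/
noncomputable def phi (F : MvPolynomial (Fin 4) k) (a x : Fin 4 → k) : Fin 4 → k :=
  polar F x a • x - eval x F • a

include hF in
theorem eval_phi (hl : ∀ x, l x = polar F a x) (hFa : eval a F = 0) {x : Fin 4 → k} (hx : l x = 0) :
    eval (phi F a x) F = 0 ∧ l (phi F a x) = 0 := by
  have hla : l a = 0 := by rw [hl, polar_self hF, aeval_k, hFa, mul_zero]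
  refine ⟨?_, by simp [phi, hx, hla]⟩
  have e : phi F a x = fun m => polar F x a * x m + (-eval x F) * a m := by
    funext m; simp [phi]; ring
  have hsc : polar F a (fun m => polar F x a * x m) = polar F x a * polar F a x := by
    simp [polar, Finset.mul_sum, mul_assoc]
  rw [e, ← aeval_k, taylor hF (fun m => polar F x a * x m) a, aeval_scale hF, polar_scale_left hF, hsc, ← hl, hx]
  simp only [aeval_k, hFa]
  ring

/-- The projection onto the tangent hyperplane along `b`. -/
noncomputable def proj : (Fin 4 → k) →ₗ[k] (Fin 4 → k) := LinearMap.id - l.smulRight b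

theorem proj_apply (x : Fin 4 → k) : proj l b x = x - l x • b := rfl

theorem l_proj (hb : l b = 1 ∨ l = 0) (x : Fin 4 → k) : l (proj l b x) = 0 := by
  rcases hb with h | h <;> simp [proj_apply, h]

include hF in
/-- Rational points of the surface in the hyperplane avoid finitely many subspaces. -/
theorem exists_phi_avoid (hb : l b = 1 ∨ l = 0) (hla : l a = 0)
    (hQ : subst (LinearMap.toMatrix' (proj l b)) (∑ i, C (a i) * pderiv i F) ≠ 0)
    (hno : ∀ Λ : MvPolynomial (Fin 4) k, Λ.IsHomogeneous 1 →
      subst (LinearMap.toMatrix' (proj l b)) F ≠ subst (LinearMap.toMatrix' (proj l b)) (∑ i, C (a i) * pderiv i F) * Λ)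
    (Ws : List (Submodule k (Fin 4 → k))) (hWs : ∀ W ∈ Ws, ¬ LinearMap.ker l ≤ W) :
    ∃ x, l x = 0 ∧ ∀ W ∈ Ws, phi F a x ∉ W := by
  set S := subst (LinearMap.toMatrix' (proj l b)) with hS
  set Q := ∑ i, C (a i) * pderiv i F with hQdef
  have hQeval : ∀ x, eval x Q = polar F x a := fun x => by
    simp [hQdef, polar, aeval_k]
  have key : ∀ W ∈ Ws, ∃ P : MvPolynomial (Fin 4) k, P ≠ 0 ∧ ∀ y, eval y P ≠ 0 → phi F a (proj l b y) ∉ W := by
    intro W hW
    obtain ⟨z, hz, hzW⟩ := SetLike.not_le_iff_exists.1 (hWs W hW)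
    obtain ⟨g, hgz, hg⟩ := Submodule.exists_dual_map_eq_bot_of_notMem hzW inferInstance
    have hgW : ∀ w ∈ W, g w = 0 := fun w hw => by
      have : g w ∈ W.map g := Submodule.mem_map_of_mem hw
      rwa [hg, Submodule.mem_bot] at this
    refine ⟨S Q * S (lform g) - C (g a) * S F, fun h0 => ?_, fun y hy hW' => hy ?_⟩
    · by_cases hga : g a = 0
      · rw [hga, C_0, zero_mul, sub_zero, mul_eq_zero] at h0
        rcases h0 with h0 | h0
        · exact hQ h0
        · have h1 := congrArg (eval z) h0
          rw [hS, eval_subst_toMatrix, eval_lform, map_zero, proj_apply, show l z = 0 from hz, zero_smul, sub_zero] at h1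
          exact hgz h1
      · refine hno (C (g a)⁻¹ * S (lform g)) ((isHomogeneous_subst _ (isHomogeneous_lform g)).C_mul _) ?_
        calc S F = C (g a)⁻¹ * (C (g a) * S F) := by
              rw [← mul_assoc, ← C_mul, inv_mul_cancel₀ hga, C_1, one_mul]
          _ = C (g a)⁻¹ * (S Q * S (lform g)) := by rw [sub_eq_zero.1 h0]
          _ = _ := by ring
    · have h1 := hgW _ hW'
      rw [phi, map_sub, map_smul, map_smul, smul_eq_mul, smul_eq_mul, ← hQeval] at h1
      rw [map_sub, map_mul, map_mul, eval_C, hS, eval_subst_toMatrix, eval_subst_toMatrix, eval_subst_toMatrix, eval_lform]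
      linear_combination h1
  choose P hP0 hP using key
  have hprod : (Ws.attach.map fun W => P W.1 W.2).prod ≠ 0 := by
    rw [Ne, List.prod_eq_zero_iff, List.mem_map]
    rintro ⟨W, -, hW⟩
    exact hP0 _ _ hW
  obtain ⟨y, hy⟩ : ∃ y, eval y (Ws.attach.map fun W => P W.1 W.2).prod ≠ 0 := by
    by_contra hcon
    push Not at hcon
    exact hprod (MvPolynomial.funext fun y => by rw [hcon y, map_zero])
  refine ⟨proj l b y, l_proj l b hb y, fun W hW => hP W hW y fun h0 => hy ?_⟩
  rw [map_list_prod, List.prod_eq_zero_iff, List.mem_map]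
  exact ⟨_, List.mem_map.2 ⟨⟨W, hW⟩, List.mem_attach _ _, rfl⟩, h0⟩

end Points

end CubicPfaff
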