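import Groth.Agent.CubicPfaff.Main
import Mathlib.Algebra.Polynomial.Roots

/-! # Finiteness of the T-points in the tangent plane at a point which is not a T-point -/

set_option autoImplicit false

universe u

open MvPolynomial

namespace CubicPfaff

variable {K : Type u} [Field K] {F : MvPolynomial (Fin 4) K}

/-- `F` is a product of three linear forms on the tangent plane at `b`. -/
def IsT (F : MvPolynomial (Fin 4) K) (b : Fin 4 → K) : Prop :=
  ∃ L₁ L₂ L₃ : MvPolynomial (Fin 4) K, L₁.IsHomogeneous 1 ∧ L₂.IsHomogeneous 1 ∧ L₃.IsHomogeneous 1 ∧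
    F - L₁ * L₂ * L₃ ∈ Ideal.span {∑ i : Fin 4, C (eval b (pderiv i F)) * X i}

section Ring

variable {A : Type*} [CommRing A] [Algebra K A]

/-- First criterion for `Q ∣ c`. -/
def crit₁ (a b c c₀ c₁ c₂ c₃ : A) : A := c ^ 2 * c₁ - c * c₃ * a - (c * c₂ - c₃ * b) * b + 0 * c₀

/-- Second criterion for `Q ∣ c`. -/
def crit₂ (a b c c₀ c₁ c₂ c₃ : A) : A := c ^ 2 * c₀ - (c * c₂ - c₃ * b) * a + 0 * c₁

/-- The first spanning vector of the tangent plane at `b`. -/
noncomputable def tv (F : MvPolynomial (Fin 4) K) (w h b : Fin 4 → A) : Fin 4 → A :=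
  fun m => polar F b w * h m - polar F b h * w m

/-- The criterion at the point `b`. -/
noncomputable def critAt (F : MvPolynomial (Fin 4) K) (w h₁ h₂ b : Fin 4 → A) (f : A → A → A → A → A → A → A → A) : A :=
  let u := tv F w h₁ b
  let v := tv F w h₂ b
  f (polar F u b) (polar F (fun m => u m + v m) b - polar F u b - polar F v b) (polar F v b)
    (aeval u F) (polar F u v) (polar F v u) (aeval v F)

end Ring

theorem map_polar {A B : Type*} [CommRing A] [CommRing B] [Algebra K A] [Algebra K B] (f : A →ₐ[K] B)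
    (p : MvPolynomial (Fin 4) K) (x y : Fin 4 → A) : f (polar p x y) = polar p (fun m => f (x m)) (fun m => f (y m)) := by
  simp only [polar, map_sum, map_mul]
  exact Finset.sum_congr rfl fun i _ => congrArg _ (comp_aeval_apply (φ := f) ..)

theorem map_aeval' {A B : Type*} [CommRing A] [CommRing B] [Algebra K A] [Algebra K B] (f : A →ₐ[K] B)
    (p : MvPolynomial (Fin 4) K) (x : Fin 4 → A) : f (aeval x p) = aeval (fun m => f (x m)) p :=
  comp_aeval_apply (φ := f) ..

theorem polar_eq_sum (b x : Fin 4 → K) :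
    polar F b x = eval x (∑ i : Fin 4, C (eval b (pderiv i F)) * X i) := by
  simp [polar, aeval_k, mul_comm]

theorem polar_add_right (b x y : Fin 4 → K) : polar F b (x + y) = polar F b x + polar F b y := by
  simp [polar, add_mul, Finset.sum_add_distrib]

theorem polar_smul_right (b x : Fin 4 → K) (r : K) : polar F b (r • x) = r * polar F b x := by
  simp [polar, Finset.mul_sum, mul_assoc]

theorem exists_linear {L : MvPolynomial (Fin 4) K} (hL : L.IsHomogeneous 1) :
    ∃ f : (Fin 4 → K) →ₗ[K] K, ∀ x, eval x L = f x := by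
  have h : L ∈ Submodule.span K (Set.range (X : Fin 4 → MvPolynomial (Fin 4) K)) := by
    rw [← homogeneousSubmodule_one_eq_span_X]; exact hL
  obtain ⟨c, rfl⟩ := (Submodule.mem_span_range_iff_exists_fun K).1 h
  exact ⟨∑ i, c i • LinearMap.proj i, fun x => by simp [smul_eq_C_mul]⟩

variable [CharZero K] (hF : F.IsHomogeneous 3)
include hF

/-- At a T-point the tangent cone conic vanishes or divides the cubic part. -/
theorem dichotomy {b u v : Fin 4 → K} (hb : eval b F = 0) (hT : IsT F b) (hu : polar F b u = 0) (hv : polar F b v = 0) :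
    (∀ x y : K, polar F (x • u + y • v) b = 0) ∨
      ∃ p q : K, ∀ x y : K, eval (x • u + y • v) F = polar F (x • u + y • v) b * (p * x + q * y) := by
  obtain ⟨L₁, L₂, L₃, h1, h2, h3, hmem⟩ := hT
  obtain ⟨f₁, e1⟩ := exists_linear h1
  obtain ⟨f₂, e2⟩ := exists_linear h2
  obtain ⟨f₃, e3⟩ := exists_linear h3
  obtain ⟨g, hg⟩ := Ideal.mem_span_singleton'.1 hmem
  have hG : ∀ y : Fin 4 → K, polar F b y = 0 → eval y F = f₁ y * f₂ y * f₃ y := by
    intro y hy
    have := congrArg (eval y) hg
    rw [map_mul, ← polar_eq_sum, hy, mul_zero, map_sub, map_mul, map_mul, e1, e2, e3] at this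
    linear_combination -this
  let U : K → K → (Fin 4 → K) := fun x y => x • u + y • v
  have hU : ∀ x y, polar F b (U x y) = 0 := fun x y => by
    simp [U, polar_add_right, polar_smul_right, hu, hv]
  have hbb : polar F b b = 0 := by rw [polar_self hF, aeval_k, hb, mul_zero]
  have key : ∀ x y z : K, eval (U x y) F + z * polar F (U x y) b =
      (f₁ (U x y) + z * f₁ b) * (f₂ (U x y) + z * f₂ b) * (f₃ (U x y) + z * f₃ b) := by
    intro x y z
    have ht := taylor hF (U x y) b z
    rw [aeval_k, aeval_k, aeval_k, hU, hb] at ht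
    have hg' := hG (U x y + z • b) (by rw [polar_add_right, polar_smul_right, hU, hbb, mul_zero, add_zero])
    simp only [LinearMap.map_add, LinearMap.map_smul, smul_eq_mul] at hg'
    rw [show (U x y + z • b) = fun m => U x y m + z * b m from rfl] at hg'
    linear_combination hg' - ht
  have z0 : ∀ x y, eval (U x y) F = f₁ (U x y) * f₂ (U x y) * f₃ (U x y) := fun x y => by
    linear_combination key x y 0
  have z2 : ∀ x y, f₁ b * f₂ b * f₃ (U x y) + f₁ b * f₃ b * f₂ (U x y) + f₂ b * f₃ b * f₁ (U x y) = 0 := fun x y => by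
    linear_combination (-(1 : K) / 2) * key x y 1 + (-(1 : K) / 2) * key x y (-1) + z0 x y
  have z3 : f₁ b * f₂ b * f₃ b = 0 := by
    linear_combination (-(1 : K) / 6) * key 0 0 2 + (1 / 2 : K) * key 0 0 1 - (1 / 2 : K) * key 0 0 0 + (1 / 6 : K) * key 0 0 (-1)
  have z1 : ∀ x y, polar F (U x y) b =
      f₁ (U x y) * f₂ (U x y) * f₃ b + f₁ (U x y) * f₃ (U x y) * f₂ b + f₂ (U x y) * f₃ (U x y) * f₁ b := fun x y => by
    linear_combination (1 / 2 : K) * key x y 1 - (1 / 2 : K) * key x y (-1) + z3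
  have two : ∀ g₁ g₂ g₃ : (Fin 4 → K) →ₗ[K] K, g₁ b = 0 → g₂ b = 0 →
      (∀ x y, eval (U x y) F = g₁ (U x y) * g₂ (U x y) * g₃ (U x y)) →
      (∀ x y, polar F (U x y) b = g₁ (U x y) * g₂ (U x y) * g₃ b + g₁ (U x y) * g₃ (U x y) * g₂ b + g₂ (U x y) * g₃ (U x y) * g₁ b) →
      (∀ x y : K, polar F (U x y) b = 0) ∨ ∃ p q : K, ∀ x y : K, eval (U x y) F = polar F (U x y) b * (p * x + q * y) := by
    intro g₁ g₂ g₃ a1 a2 hc hq
    by_cases a3 : g₃ b = 0
    · exact Or.inl fun x y => by rw [hq, a1, a2, a3]; ring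
    · refine Or.inr ⟨g₃ u / g₃ b, g₃ v / g₃ b, fun x y => ?_⟩
      rw [hq, hc, a1, a2, show g₃ (U x y) = x * g₃ u + y * g₃ v by simp [U]]
      field_simp
      ring
  have one : ∀ g₁ g₂ g₃ : (Fin 4 → K) →ₗ[K] K, g₁ b = 0 →
      (∀ x y, g₁ b * g₂ b * g₃ (U x y) + g₁ b * g₃ b * g₂ (U x y) + g₂ b * g₃ b * g₁ (U x y) = 0) →
      (∀ x y, eval (U x y) F = g₁ (U x y) * g₂ (U x y) * g₃ (U x y)) →
      (∀ x y, polar F (U x y) b = g₁ (U x y) * g₂ (U x y) * g₃ b + g₁ (U x y) * g₃ (U x y) * g₂ b + g₂ (U x y) * g₃ (U x y) * g₁ b) →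
      (∀ x y : K, polar F (U x y) b = 0) ∨ ∃ p q : K, ∀ x y : K, eval (U x y) F = polar F (U x y) b * (p * x + q * y) := by
    intro g₁ g₂ g₃ a1 h2' hc hq
    by_cases a2 : g₂ b = 0
    · exact two g₁ g₂ g₃ a1 a2 hc hq
    by_cases a3 : g₃ b = 0
    · exact two g₁ g₃ g₂ a1 a3 (fun x y => by rw [hc]; ring) (fun x y => by rw [hq]; ring)
    refine Or.inr ⟨0, 0, fun x y => ?_⟩
    have := h2' x y
    rw [a1] at this
    simp [a2, a3] at this
    rw [hc, this]
    ring
  rcases mul_eq_zero.1 z3 with h | h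
  · rcases mul_eq_zero.1 h with h | h
    · exact one f₁ f₂ f₃ h z2 z0 z1
    · exact one f₂ f₁ f₃ h (fun x y => by linear_combination z2 x y) (fun x y => by rw [z0]; ring) (fun x y => by rw [z1]; ring)
  · exact one f₃ f₁ f₂ h (fun x y => by linear_combination z2 x y) (fun x y => by rw [z0]; ring) (fun x y => by rw [z1]; ring)

theorem eval_pair (u v : Fin 4 → K) (x y : K) :
    eval (x • u + y • v) F = eval u F * x ^ 3 + polar F u v * (x ^ 2 * y) + polar F v u * (x * y ^ 2) + eval v F * y ^ 3 := by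
  have := aeval_combination hF u v x y
  rwa [aeval_k, aeval_k, aeval_k] at this

theorem polar_pair (u v b : Fin 4 → K) (x y : K) :
    polar F (x • u + y • v) b = x ^ 2 * polar F u b + y ^ 2 * polar F v b +
      x * y * (polar F (fun m => u m + v m) b - polar F u b - polar F v b) :=
  polar_combination hF u v b x y

theorem critAt_eq_zero {b w h₁ h₂ : Fin 4 → K} (hb : eval b F = 0) (hT : IsT F b) :
    critAt F w h₁ h₂ b crit₁ = 0 ∧ critAt F w h₁ h₂ b crit₂ = 0 := by
  have hker : ∀ h, polar F b (tv F w h b) = 0 := fun h => by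
    rw [show tv F w h b = polar F b w • h + (-polar F b h) • w from funext fun m => by simp [tv]; ring,
      polar_add_right, polar_smul_right, polar_smul_right]
    ring
  simp only [critAt]
  rcases dichotomy hF hb hT (hker h₁) (hker h₂) with h | ⟨p, q, h⟩
  · have e1 := h 1 0; have e2 := h 0 1; have e3 := h 1 1
    rw [polar_pair hF] at e1 e2 e3
    have A0 : polar F (tv F w h₁ b) b = 0 := by linear_combination e1
    have C0 : polar F (tv F w h₂ b) b = 0 := by linear_combination e2
    have B0 : polar F (fun m => tv F w h₁ b m + tv F w h₂ b m) b = 0 := by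
      linear_combination e3
    constructor <;> simp only [crit₁, crit₂, A0, B0, C0] <;> ring
  · have e1 := h 1 0; have e2 := h 0 1; have e3 := h 1 1; have e4 := h 1 (-1)
    rw [polar_pair hF, eval_pair hF] at e1 e2 e3 e4
    set A := polar F (tv F w h₁ b) b
    set C₀ := polar F (tv F w h₂ b) b
    set B := polar F (fun m => tv F w h₁ b m + tv F w h₂ b m) b - A - C₀
    rw [aeval_k, aeval_k]
    have c0 : eval (tv F w h₁ b) F = A * p := by linear_combination e1
    have c3 : eval (tv F w h₂ b) F = C₀ * q := by linear_combination e2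
    have c2 : polar F (tv F w h₂ b) (tv F w h₁ b) = B * q + C₀ * p := by
      linear_combination (1 / 2 : K) * e3 + (1 / 2 : K) * e4 - e1
    have c1 : polar F (tv F w h₁ b) (tv F w h₂ b) = A * q + B * p := by
      linear_combination (1 / 2 : K) * e3 - (1 / 2 : K) * e4 - e2
    constructor <;> simp only [crit₁, crit₂, c0, c1, c2, c3] <;> ring

/-- T-points in the tangent plane at a point which is not a T-point are finite. -/
theorem finite_TPoints [IsAlgClosed K] {a : Fin 4 → K} (ha0 : a ≠ 0) (hFa : eval a F = 0)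
    (l : (Fin 4 → K) →ₗ[K] K) (hl : ∀ x, l x = polar F a x) (hl0 : l ≠ 0) (ha : ¬ IsT F a) :
    Set.Finite {U : Submodule K (Fin 4 → K) | Module.finrank K ↥U = 1 ∧ U ≤ LinearMap.ker l ∧
      ∀ b ∈ U, b ≠ 0 → eval b F = 0 ∧ IsT F b} := by
  classical
  haveI : Infinite K := Infinite.of_injective (fun n : ℕ => (n : K)) Nat.cast_injective
  obtain ⟨x₀, hx₀⟩ : ∃ x, l x ≠ 0 := by
    by_contra h; push Not at h; exact hl0 (LinearMap.ext h)
  let w := (l x₀)⁻¹ • x₀
  have hw : l w = 1 := by simp [w, hx₀]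
  have hla : l a = 0 := by rw [hl, polar_self hF, aeval_k, hFa, mul_zero]
  have hker : Module.finrank K (LinearMap.ker l) = 3 := by
    have h1 := LinearMap.finrank_range_add_finrank_ker l
    rw [LinearMap.range_eq_top.2 (LinearMap.surjective hl0), finrank_top, Module.finrank_self, Module.finrank_fin_fun] at h1
    omega
  have mkbasis : ∀ h₁ h₂ : Fin 4 → K, l h₁ = 0 → l h₂ = 0 → h₁ ∉ Submodule.span K (Set.range ![a]) →
      h₂ ∉ Submodule.span K (Set.range ![a, h₁]) →
      ∃ α β γ : (Fin 4 → K) →ₗ[K] K, (∀ x, proj l w x = α x • a + β x • h₁ + γ x • h₂) ∧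
        (α a = 1 ∧ β a = 0 ∧ γ a = 0) := by
    intro h₁ h₂ l1 l2 n1 n2
    have indA : LinearIndependent K (Fin.snoc (Fin.snoc (Fin.snoc (![a] : Fin 1 → Fin 4 → K) h₁) h₂) w : Fin 4 → Fin 4 → K) := by
      refine linearIndependent_finSnoc.2 ⟨linearIndependent_finSnoc.2 ⟨linearIndependent_finSnoc.2 ⟨?_, n1⟩, ?_⟩, ?_⟩
      · exact linearIndependent_unique_iff.2 (by simpa using ha0)
      · intro hm
        refine n2 (Submodule.span_mono ?_ hm)
        rintro _ ⟨i, rfl⟩
        fin_cases i <;> simp [Fin.snoc]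
      · intro hmem
        have hsub : Submodule.span K (Set.range (Fin.snoc (Fin.snoc (![a] : Fin 1 → Fin 4 → K) h₁) h₂ : Fin 3 → Fin 4 → K)) ≤ LinearMap.ker l := by
          rw [Submodule.span_le]
          rintro _ ⟨i, rfl⟩
          fin_cases i
          · exact hla
          · exact l1
          · exact l2
        have := hsub hmem
        rw [LinearMap.mem_ker, hw] at this
        exact one_ne_zero this
    let bA : Module.Basis (Fin 4) K (Fin 4 → K) := basisOfLinearIndependentOfCardEqFinrank indA (by simp)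
    have hb0 : bA 0 = a := by simp [bA, Fin.snoc]
    refine ⟨bA.coord 0, bA.coord 1, bA.coord 2, fun x => ?_, ?_⟩
    · have hx := bA.sum_repr x
      rw [Fin.sum_univ_four] at hx
      have hx' : bA.repr x 0 • a + bA.repr x 1 • h₁ + bA.repr x 2 • h₂ + bA.repr x 3 • w = x := by
        refine Eq.trans ?_ hx
        simp only [bA, coe_basisOfLinearIndependentOfCardEqFinrank]
        rfl
      have h3 : l x = bA.repr x 3 := by
        conv_lhs => rw [← hx']
        simp [map_add, hla, hw, l1, l2]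
      rw [proj_apply, h3]
      show x - bA.repr x 3 • w = bA.repr x 0 • a + bA.repr x 1 • h₁ + bA.repr x 2 • h₂
      exact sub_eq_iff_eq_add.2 hx'.symm
    · refine ⟨?_, ?_, ?_⟩ <;> rw [← hb0] <;> simp
  have hp : ∀ x : Fin 4 → K, l x = 0 → proj l w x = x := fun x hx => by simp [proj_apply, hx]
  have hshift : ∀ (y : Fin 4 → K) (t : K), l y = 0 →
      eval (t • a + y) F = eval y F + t * polar F y a ∧ polar F (t • a + y) a = polar F y a := by
    intro y t hy
    have h1 := taylor hF y a t
    have h2 := polar_shift hF y a t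
    rw [aeval_k, aeval_k, aeval_k, ← hl, hy, hFa] at h1
    rw [← hl, hy, aeval_k, hFa] at h2
    rw [show t • a + y = fun m => y m + t * a m from funext fun m => by simp; ring]
    exact ⟨by linear_combination h1, by linear_combination h2⟩
  -- congruence of `F` with a polynomial in the coordinates of the tangent plane
  have toT : ∀ L₁ L₂ L₃ : MvPolynomial (Fin 4) K, L₁.IsHomogeneous 1 → L₂.IsHomogeneous 1 → L₃.IsHomogeneous 1 →
      (∀ x, eval (proj l w x) F = eval x (L₁ * L₂ * L₃)) → IsT F a := by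
    intro L₁ L₂ L₃ e1 e2 e3 he
    refine ⟨L₁, L₂, L₃, e1, e2, e3, ?_⟩
    have e : L₁ * L₂ * L₃ = subst (LinearMap.toMatrix' (proj l w)) F :=
      MvPolynomial.funext fun x => by rw [eval_subst_toMatrix, he]
    have hlf : (∑ i : Fin 4, C (eval a (pderiv i F)) * X i) = lform l :=
      MvPolynomial.funext fun x => by rw [← polar_eq_sum, eval_lform, hl]
    rw [e, hlf]
    have h1 : (Ideal.Quotient.mkₐ K (Ideal.span {lform l})).comp (subst (LinearMap.toMatrix' (proj l w))) =
        Ideal.Quotient.mkₐ K (Ideal.span {lform l}) := by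
      refine MvPolynomial.algHom_ext fun i => ?_
      refine Ideal.Quotient.eq.2 (Ideal.mem_span_singleton'.2 ⟨-C (w i), ?_⟩)
      refine MvPolynomial.funext fun x => ?_
      rw [map_mul, map_neg, eval_C, eval_lform, map_sub]
      show -w i * l x = eval x (subst (LinearMap.toMatrix' (proj l w)) (X i)) - eval x (X i)
      rw [eval_subst_toMatrix, eval_X, eval_X, proj_apply]
      simp
      ring
    exact Ideal.Quotient.eq.1 (AlgHom.congr_fun h1 F).symm
  -- choose `h₂` off the tangent cone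
  obtain ⟨h₂, l2, q2⟩ : ∃ h, l h = 0 ∧ polar F h a ≠ 0 := by
    by_contra hcon
    push Not at hcon
    obtain ⟨g₁, g1, g1'⟩ := SetLike.not_le_iff_exists.1 (not_le_span ![a] (LinearMap.ker l) (by omega))
    obtain ⟨g₂, g2, g2'⟩ := SetLike.not_le_iff_exists.1 (not_le_span ![a, g₁] (LinearMap.ker l) (by omega))
    obtain ⟨α, β, γ, hdec, -⟩ := mkbasis g₁ g₂ g1 g2 g1' g2'
    obtain ⟨L₁, L₂, L₃, e1, e2, e3, he⟩ := cubic_factor (eval g₁ F) (polar F g₁ g₂) (polar F g₂ g₁) (eval g₂ F)
      _ _ (isHomogeneous_lform β) (isHomogeneous_lform γ)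
    refine ha (toT L₁ L₂ L₃ e1 e2 e3 fun x => ?_)
    have hy : l (β x • g₁ + γ x • g₂) = 0 := by simp [LinearMap.mem_ker.1 g1, LinearMap.mem_ker.1 g2]
    rw [← he, hdec, add_assoc, (hshift _ _ hy).1, hcon _ hy, eval_pair hF]
    simp [eval_lform]
  have n2' : h₂ ∉ Submodule.span K (Set.range ![a]) := by
    intro hm
    simp [Submodule.mem_span_singleton] at hm
    obtain ⟨r, rfl⟩ := hm
    exact q2 (by rw [show r • a = fun m => r * a m from rfl, polar_scale_left hF, polar_self hF, aeval_k, hFa, mul_zero, mul_zero])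
  obtain ⟨h₁, hh₁, hh₁'⟩ := SetLike.not_le_iff_exists.1 (not_le_span ![a, h₂] (LinearMap.ker l) (by omega))
  have l1 : l h₁ = 0 := hh₁
  have n1 : h₁ ∉ Submodule.span K (Set.range ![a]) := fun hm => hh₁' (Submodule.span_mono (by simp) hm)
  have n12 : h₂ ∉ Submodule.span K (Set.range ![a, h₁]) := by
    intro hm
    rw [show Set.range ![a, h₁] = insert h₁ {a} by simp [Set.pair_comm]] at hm
    refine hh₁' ?_
    rw [show Set.range ![a, h₂] = insert h₂ {a} by simp [Set.pair_comm]]
    refine mem_span_insert_exchange hm ?_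
    simpa using n2'
  obtain ⟨α, β, γ, hdec, hαa, hβa, hγa⟩ := mkbasis h₁ h₂ l1 l2 n1 n12
  -- the test polynomial
  let cst : (Fin 4 → K) → Fin 4 → MvPolynomial (Fin 4) K := fun u m => C (u m)
  have hcst : ∀ (b u : Fin 4 → K), (fun m => aeval b (cst u m)) = u := fun b u => funext fun m => by simp [cst]
  let P : (MvPolynomial (Fin 4) K → MvPolynomial (Fin 4) K → MvPolynomial (Fin 4) K → MvPolynomial (Fin 4) K →
      MvPolynomial (Fin 4) K → MvPolynomial (Fin 4) K → MvPolynomial (Fin 4) K → MvPolynomial (Fin 4) K) → MvPolynomial (Fin 4) K :=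
    fun f => critAt F (cst w) (cst h₁) (cst h₂) (X : Fin 4 → MvPolynomial (Fin 4) K) f
  have htv : ∀ (b h : Fin 4 → K), (fun m => aeval b (tv F (cst w) (cst h) (X : Fin 4 → MvPolynomial (Fin 4) K) m)) = tv F w h b := by
    intro b h
    funext m
    simp only [tv, map_sub, map_mul, map_polar, hcst, aeval_X]
    simp [cst]
  have htv' : ∀ (b h : Fin 4 → K) (m : Fin 4), aeval b (tv F (cst w) (cst h) (X : Fin 4 → MvPolynomial (Fin 4) K) m) = tv F w h b m :=
    fun b h m => congrFun (htv b h) m
  have hP1 : ∀ b, eval b (P crit₁) = critAt F w h₁ h₂ b crit₁ := fun b => by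
    rw [← aeval_k]
    simp only [P, critAt, crit₁, map_sub, map_add, map_mul, map_pow, map_zero, map_polar, map_aeval', htv, htv', aeval_X]
  have hP2 : ∀ b, eval b (P crit₂) = critAt F w h₁ h₂ b crit₂ := fun b => by
    rw [← aeval_k]
    simp only [P, critAt, crit₂, map_sub, map_add, map_mul, map_pow, map_zero, map_polar, map_aeval', htv, htv', aeval_X]
  have hva : ∀ h, l h = 0 → tv F w h a = h := fun h hh => funext fun m => by
    simp [tv, ← hl, hw, hh]
  obtain ⟨G, hGa, hG⟩ : ∃ G : MvPolynomial (Fin 4) K, eval a G ≠ 0 ∧ ∀ b, eval b F = 0 → IsT F b → eval b G = 0 := by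
    by_contra hcon
    push Not at hcon
    have c1 : eval a (P crit₁) = 0 := by
      by_contra h
      obtain ⟨b, hb, hbT, hne⟩ := hcon _ h
      exact hne (by rw [hP1]; exact (critAt_eq_zero hF hb hbT).1)
    have c2 : eval a (P crit₂) = 0 := by
      by_contra h
      obtain ⟨b, hb, hbT, hne⟩ := hcon _ h
      exact hne (by rw [hP2]; exact (critAt_eq_zero hF hb hbT).2)
    rw [hP1] at c1
    rw [hP2] at c2
    simp only [critAt, hva _ l1, hva _ l2, crit₁, crit₂, aeval_k] at c1 c2
    set A := polar F h₁ a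
    set C₀ := polar F h₂ a
    set B := polar F (fun m => h₁ m + h₂ m) a - A - C₀ with hB
    obtain ⟨q, hq⟩ : ∃ q, q = eval h₂ F / C₀ := ⟨_, rfl⟩
    obtain ⟨p, hp'⟩ : ∃ p, p = (polar F h₂ h₁ - q * B) / C₀ := ⟨_, rfl⟩
    have c3e : eval h₂ F = C₀ * q := by rw [hq]; field_simp
    have c2e : polar F h₂ h₁ = B * q + C₀ * p := by rw [hp']; field_simp; ring
    rw [c3e, c2e] at c1 c2
    have c1e : polar F h₁ h₂ = A * q + B * p := by
      apply mul_left_cancel₀ (pow_ne_zero 2 q2)
      linear_combination c1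
    have c0e : eval h₁ F = A * p := by
      apply mul_left_cancel₀ (pow_ne_zero 2 q2)
      linear_combination c2
    obtain ⟨L₁, L₂, e1, e2, he⟩ := quadratic_factor A B C₀ _ _ (isHomogeneous_lform β) (isHomogeneous_lform γ)
    refine ha (toT L₁ L₂ (lform (p • β + q • γ + α)) e1 e2 (isHomogeneous_lform _) fun x => ?_)
    have hy : l (β x • h₁ + γ x • h₂) = 0 := by simp [l1, l2]
    rw [← he, hdec, add_assoc, (hshift _ _ hy).1, eval_pair hF, polar_pair hF, ← hB, c0e, c1e, c2e, c3e]
    simp [eval_lform]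
    ring
  -- univariate test polynomials along the parametrisation
  let qq : Polynomial K := Polynomial.C (polar F h₁ a) + Polynomial.X ^ 2 * Polynomial.C (polar F h₂ a) +
    Polynomial.X * Polynomial.C (polar F (fun m => h₁ m + h₂ m) a - polar F h₁ a - polar F h₂ a)
  let cc : Polynomial K := Polynomial.C (eval h₁ F) + Polynomial.C (polar F h₁ h₂) * Polynomial.X +
    Polynomial.C (polar F h₂ h₁) * Polynomial.X ^ 2 + Polynomial.C (eval h₂ F) * Polynomial.X ^ 3
  let wt : K → Fin 4 → K := fun t => h₁ + t • h₂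
  have hlwt : ∀ t, l (wt t) = 0 := fun t => by simp [wt, l1, l2]
  have hqq : ∀ t, qq.eval t = polar F (wt t) a := fun t => by
    rw [show wt t = (1 : K) • h₁ + t • h₂ by simp [wt], polar_pair hF]
    simp [qq]
    ring
  have hcc : ∀ t, cc.eval t = eval (wt t) F := fun t => by
    rw [show wt t = (1 : K) • h₁ + t • h₂ by simp [wt], eval_pair hF]
    simp [cc]
  -- a parametrisation passing through `a`
  obtain ⟨U₀, V₀, r, hUV, hUr, hVr, hU₀⟩ : ∃ (U₀ V₀ : Polynomial K) (r : K),
      (∀ t, U₀.eval t * cc.eval t = V₀.eval t * qq.eval t) ∧ U₀.eval r = 0 ∧ V₀.eval r = 1 ∧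
      (∀ t, qq.eval t ≠ 0 → U₀.eval t ≠ 0) := by
    have hdeg : qq.degree = 2 := by
      rw [show qq = Polynomial.C (polar F h₂ a) * Polynomial.X ^ 2 +
        Polynomial.C (polar F (fun m => h₁ m + h₂ m) a - polar F h₁ a - polar F h₂ a) * Polynomial.X +
        Polynomial.C (polar F h₁ a) by simp only [qq]; ring]
      exact Polynomial.degree_quadratic q2
    obtain ⟨r₁, hr₁⟩ := IsAlgClosed.exists_root qq (by rw [hdeg]; decide)
    obtain ⟨q', hq'⟩ := Polynomial.dvd_iff_isRoot.2 hr₁
    by_cases hc : cc.eval r₁ = 0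
    · obtain ⟨M, hM⟩ := Polynomial.dvd_iff_isRoot.2 (hc : cc.IsRoot r₁)
      have hdeg' : q'.degree = 1 := by
        have hz : q' ≠ 0 := fun h => by rw [hq', h, mul_zero, Polynomial.degree_zero] at hdeg; exact absurd hdeg (by decide)
        have hn := Polynomial.natDegree_eq_of_degree_eq_some (n := 2) hdeg
        rw [hq', Polynomial.natDegree_mul (Polynomial.X_sub_C_ne_zero r₁) hz, Polynomial.natDegree_X_sub_C] at hn
        rw [Polynomial.degree_eq_natDegree hz, show q'.natDegree = 1 by omega]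
        rfl
      obtain ⟨r₂, hr₂⟩ := IsAlgClosed.exists_root q' (by rw [hdeg']; decide)
      have hMr : M.eval r₂ ≠ 0 := by
        intro hM0
        obtain ⟨q'', hq''⟩ := Polynomial.dvd_iff_isRoot.2 hr₂
        obtain ⟨M', hM'⟩ := Polynomial.dvd_iff_isRoot.2 (hM0 : M.IsRoot r₂)
        obtain ⟨e, he0, he⟩ : ∃ e : K, e ≠ 0 ∧ q'' = Polynomial.C e := by
          have hz : q'' ≠ 0 := fun h => by rw [hq'', h, mul_zero, Polynomial.degree_zero] at hdeg'; exact absurd hdeg' (by decide)
          have hn := Polynomial.natDegree_eq_of_degree_eq_some (n := 1) hdeg'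
          rw [hq'', Polynomial.natDegree_mul (Polynomial.X_sub_C_ne_zero r₂) hz, Polynomial.natDegree_X_sub_C] at hn
          have h0 : q''.natDegree = 0 := by omega
          have he := Polynomial.eq_C_of_natDegree_eq_zero h0
          exact ⟨q''.coeff 0, fun h => hz (by rw [he, h, Polynomial.C_0]), he⟩
        have hfac : cc = qq * (Polynomial.C e⁻¹ * M') := by
          rw [hM, hM', hq', hq'', he]
          calc _ = (Polynomial.X - Polynomial.C r₁) * ((Polynomial.X - Polynomial.C r₂) * M') * (Polynomial.C e * Polynomial.C e⁻¹) := by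
                rw [← map_mul, mul_inv_cancel₀ he0, map_one, mul_one]
            _ = _ := by ring
        generalize hN : Polynomial.C e⁻¹ * M' = N at hfac
        have hqq0 : qq ≠ 0 := fun h0 => by rw [h0, Polynomial.degree_zero] at hdeg; exact absurd hdeg (by decide)
        have hccdeg : cc.natDegree ≤ 3 := by
          simp only [cc]; compute_degree
        have hNdeg : N.natDegree ≤ 1 := by
          rcases eq_or_ne N 0 with rfl | hN0
          · simp
          · have hq2 : qq.natDegree = 2 := Polynomial.natDegree_eq_of_degree_eq_some hdeg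
            rw [hfac, Polynomial.natDegree_mul hqq0 hN0, hq2] at hccdeg
            omega
        have hNe : N = Polynomial.C (N.coeff 1) * Polynomial.X + Polynomial.C (N.coeff 0) :=
          Polynomial.eq_X_add_C_of_natDegree_le_one hNdeg
        rw [hNe] at hfac
        generalize N.coeff 1 = Q₁, N.coeff 0 = P₁ at hfac
        have co : ∀ t : K, cc.eval t = qq.eval t * (Q₁ * t + P₁) := fun t => by rw [hfac]; simp
        have k0 := co 0; have k1 := co 1; have k2 := co 2; have km := co (-1)
        simp only [cc, qq, Polynomial.eval_add, Polynomial.eval_mul, Polynomial.eval_C, Polynomial.eval_pow, Polynomial.eval_X] at k0 k1 k2 km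
        set A := polar F h₁ a
        set C₀ := polar F h₂ a
        set B := polar F (fun m => h₁ m + h₂ m) a - A - C₀ with hB
        have e0 : eval h₁ F = A * P₁ := by linear_combination k0
        have e1 : polar F h₁ h₂ = A * Q₁ + B * P₁ := by
          linear_combination k1 - (1 / 3 : K) * km - (1 / 6 : K) * k2 - (1 / 2 : K) * k0
        have e2 : polar F h₂ h₁ = B * Q₁ + C₀ * P₁ := by
          linear_combination (1 / 2 : K) * k1 + (1 / 2 : K) * km - k0
        have e3 : eval h₂ F = C₀ * Q₁ := by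
          linear_combination (1 / 6 : K) * k2 + (1 / 2 : K) * k0 - (1 / 2 : K) * k1 - (1 / 6 : K) * km
        obtain ⟨L₁, L₂, f1, f2, hf⟩ := quadratic_factor A B C₀ _ _
          (isHomogeneous_lform β) (isHomogeneous_lform γ)
        refine ha (toT L₁ L₂ (lform (P₁ • β + Q₁ • γ + α)) f1 f2 (isHomogeneous_lform _) fun x => ?_)
        have hy : l (β x • h₁ + γ x • h₂) = 0 := by simp [l1, l2]
        rw [← hf, hdec, add_assoc, (hshift _ _ hy).1, eval_pair hF, polar_pair hF, ← hB, e0, e1, e2, e3]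
        simp [eval_lform]
        ring
      refine ⟨q' * Polynomial.C (M.eval r₂)⁻¹, M * Polynomial.C (M.eval r₂)⁻¹, r₂, fun t => ?_, ?_, ?_, fun t ht => ?_⟩
      · rw [hM, hq']; simp; ring
      · simp [show q'.eval r₂ = 0 from hr₂]
      · simp [hMr]
      · rw [hq'] at ht; simp at ht
        simp [ht.2, hMr]
    · refine ⟨qq * Polynomial.C (cc.eval r₁)⁻¹, cc * Polynomial.C (cc.eval r₁)⁻¹, r₁, fun t => by simp; ring, ?_, by simp [hc], fun t ht => by simp [hc, ht]⟩
      simp [show qq.eval r₁ = 0 from hr₁]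
  -- `t ↦ U₀(t) (h₁ + t h₂) - V₀(t) a`, and the test polynomial along it
  let ph : K → Fin 4 → K := fun t => U₀.eval t • wt t - V₀.eval t • a
  -- `G'` is nonzero at `-a`
  let G' : MvPolynomial (Fin 4) K := aeval (fun m => -X m) G
  have hG' : ∀ b, eval b G' = eval (-b) G := fun b => by
    rw [← aeval_k, map_aeval', ← aeval_k]
    congr 2
    funext m
    simp
  let R : Polynomial K := aeval (fun m => U₀ * (Polynomial.C (h₁ m) + Polynomial.X * Polynomial.C (h₂ m)) -
    V₀ * Polynomial.C (a m)) G'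
  have hR : ∀ t, R.eval t = eval (ph t) G' := fun t => by
    rw [← Polynomial.coe_aeval_eq_eval, ← aeval_k]
    simp only [R, map_aeval']
    congr 2
    funext m
    simp [ph, wt]
    ring
  have hR0 : R ≠ 0 := fun h0 => hGa (by
    have h1 := hR r
    rw [h0, Polynomial.eval_zero, hG'] at h1
    rw [h1]
    simp [ph, hUr, hVr])
  let S : K → Polynomial K := fun t => aeval (fun m => Polynomial.C (a m) + Polynomial.X * Polynomial.C (wt t m)) G
  have hS : ∀ t s, (S t).eval s = eval (a + s • wt t) G := fun t s => by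
    rw [← Polynomial.coe_aeval_eq_eval, ← aeval_k]
    simp only [S, map_aeval']
    congr 2
    funext m
    simp
    ring
  have hS0 : ∀ t, S t ≠ 0 := fun t h0 => hGa (by
    have h1 := hS t 0
    rw [h0, Polynomial.eval_zero, zero_smul, add_zero] at h1
    exact h1.symm)
  have hqq0 : qq ≠ 0 := fun h0 => by
    apply q2
    have := congrArg (fun p => Polynomial.coeff p 2) h0
    simpa [qq, Polynomial.coeff_C, Polynomial.coeff_X] using this
  let Tset : Set (Fin 4 → K) := ph '' (R.rootSet K) ∪ (⋃ t ∈ qq.rootSet K, insert (wt t) ((fun s => a + s • wt t) '' (S t).rootSet K)) ∪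
    {h₂ - (eval h₂ F / polar F h₂ a) • a}
  have hTfin : Tset.Finite := by
    refine ((Polynomial.rootSet_finite R K).image _ |>.union ?_).union (Set.finite_singleton _)
    exact (Polynomial.rootSet_finite qq K).biUnion fun t _ => ((Polynomial.rootSet_finite _ K).image _).insert _
  refine (hTfin.image fun b => Submodule.span K {b}).subset ?_
  rintro U ⟨hU, hUH, hUT⟩
  obtain ⟨b, hbU, hb0, hspan⟩ : ∃ b ∈ U, b ≠ 0 ∧ ∀ c : K, c ≠ 0 → Submodule.span K {c • b} = U := by
    obtain ⟨⟨b, hbU⟩, hb0, hgen⟩ := finrank_eq_one_iff'.1 hU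
    have hb : b ≠ 0 := fun h => hb0 (Subtype.ext h)
    refine ⟨b, hbU, hb, fun c hc => ?_⟩
    rw [Submodule.span_singleton_smul_eq (isUnit_iff_ne_zero.2 hc)]
    refine le_antisymm ((Submodule.span_singleton_le_iff_mem _ _).2 hbU) fun y hy => ?_
    obtain ⟨e, he⟩ := hgen ⟨y, hy⟩
    exact Submodule.mem_span_singleton.2 ⟨e, congrArg Subtype.val he⟩
  have good : ∀ c : K, c ≠ 0 → eval (c • b) F = 0 ∧ eval (c • b) G = 0 := fun c hc => by
    have h := hUT (c • b) (U.smul_mem c hbU) (smul_ne_zero hc hb0)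
    exact ⟨h.1, hG _ h.1 h.2⟩
  have hbdec : b = α b • a + β b • h₁ + γ b • h₂ := (hp b (hUH hbU)).symm.trans (hdec b)
  by_cases hβ : β b = 0
  · by_cases hγ : γ b = 0
    · exfalso
      rw [hβ, hγ, zero_smul, zero_smul, add_zero, add_zero] at hbdec
      have hα : α b ≠ 0 := fun h => hb0 (by rw [hbdec, h, zero_smul])
      have h := (good (α b)⁻¹ (inv_ne_zero hα)).2
      rw [hbdec, smul_smul] at h
      simp only [← hbdec, inv_mul_cancel₀ hα, one_smul] at h
      exact hGa h
    · refine ⟨_, Or.inr rfl, ?_⟩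
      rw [hβ, zero_smul, add_zero] at hbdec
      have h := (good (γ b)⁻¹ (inv_ne_zero hγ)).1
      have hs : (γ b)⁻¹ • b = (α b / γ b) • a + h₂ := by
        refine (congrArg (fun v => (γ b)⁻¹ • v) hbdec).trans ?_
        simp only [smul_add, smul_smul, inv_mul_cancel₀ hγ, one_smul, inv_mul_eq_div]
      rw [hs, (hshift _ _ l2).1] at h
      have : h₂ - (eval h₂ F / polar F h₂ a) • a = (γ b)⁻¹ • b := by
        rw [hs, sub_eq_add_neg, ← neg_smul, add_comm]
        congr 2
        field_simp at h ⊢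
        linear_combination -h
      show Submodule.span K {h₂ - (eval h₂ F / polar F h₂ a) • a} = U
      rw [this]
      exact hspan _ (inv_ne_zero hγ)
  · obtain ⟨t, ht⟩ : ∃ t, t = γ b / β b := ⟨_, rfl⟩
    obtain ⟨s, hs'⟩ : ∃ s, s = α b / β b := ⟨_, rfl⟩
    have hs : (β b)⁻¹ • b = s • a + wt t := by
      refine (congrArg (fun v => (β b)⁻¹ • v) hbdec).trans ?_
      simp only [wt, ht, hs', smul_add, smul_smul, inv_mul_cancel₀ hβ, one_smul, inv_mul_eq_div]
      abel
    have h := (good (β b)⁻¹ (inv_ne_zero hβ)).1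
    rw [hs, (hshift _ _ (hlwt t)).1, ← hqq, ← hcc] at h
    by_cases hq : qq.eval t = 0
    · have hmemt : t ∈ qq.rootSet K := by rw [Polynomial.mem_rootSet]; exact ⟨hqq0, by simpa using hq⟩
      by_cases hs0 : s = 0
      · refine ⟨wt t, Or.inl (Or.inr (Set.mem_biUnion hmemt (Set.mem_insert _ _))), ?_⟩
        rw [hs0, zero_smul, zero_add] at hs
        show Submodule.span K {wt t} = U
        rw [← hs]
        exact hspan _ (inv_ne_zero hβ)
      · have hs2 : (s⁻¹ * (β b)⁻¹) • b = a + s⁻¹ • wt t := by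
          rw [mul_smul, hs, smul_add, smul_smul, inv_mul_cancel₀ hs0, one_smul]
        have hne : s⁻¹ * (β b)⁻¹ ≠ 0 := mul_ne_zero (inv_ne_zero hs0) (inv_ne_zero hβ)
        refine ⟨a + s⁻¹ • wt t, Or.inl (Or.inr (Set.mem_biUnion hmemt (Set.mem_insert_of_mem _ ⟨s⁻¹, ?_, rfl⟩))), ?_⟩
        · rw [Polynomial.mem_rootSet]
          refine ⟨hS0 t, ?_⟩
          have h2 := (good _ hne).2
          rw [hs2, ← hS] at h2
          simpa using h2
        · show Submodule.span K {a + s⁻¹ • wt t} = U
          rw [← hs2]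
          exact hspan _ hne
    · have hU0 := hU₀ t hq
      have hsV : U₀.eval t * s = -V₀.eval t := by
        apply mul_left_cancel₀ hq
        linear_combination (U₀.eval t) * h - hUV t
      have hph : (U₀.eval t * (β b)⁻¹) • b = ph t := by
        rw [mul_smul, hs, smul_add, smul_smul, hsV]
        simp only [ph, neg_smul]
        abel
      have hne : U₀.eval t * (β b)⁻¹ ≠ 0 := mul_ne_zero hU0 (inv_ne_zero hβ)
      refine ⟨ph t, Or.inl (Or.inl ⟨t, ?_, rfl⟩), ?_⟩
      · rw [Polynomial.mem_rootSet]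
        refine ⟨hR0, ?_⟩
        have h2 := (good _ (neg_ne_zero.2 hne)).2
        rw [neg_smul, hph, ← hG', ← hR] at h2
        simpa using h2
      · show Submodule.span K {ph t} = U
        rw [← hph]
        exact hspan _ hne

end CubicPfaff
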